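import Groth.Agent.StratX.Dense
import Groth.Agent.ASp.ChartDim
import Groth.Agent.ASp.DecentDim
import Groth.Agent.ASp.DecentEtale
import Groth.Agent.ASp.SepAffine
import Groth.Agent.FlatLocus.ImageClosure
/-!
Points of codimension zero lie in open subschemes.
-/

set_option autoImplicit false
set_option backward.isDefEq.respectTransparency false
set_option backward.isDefEq.respectTransparency.types false

universe u

open CategoryTheory CategoryTheory.Limits AlgebraicGeometry Opposite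

namespace Groth.Agent.StratX

open _root_.AlgSp Groth.Agent.ASp

variable {S : Scheme.{u}}

/-- Schemes over `S` through one point of a space lie over one point of `S`. -/
theorem hom_eq_of_ofPt_eq {F : Sp S} {T T' : Over S} {g : (yon S).obj T ⟶ F} {g' : (yon S).obj T' ⟶ F}
    {t : ↥T.left} {t' : ↥T'.left} (h : Points.ofPt g t = Points.ofPt g' t') : T.hom t = T'.hom t' := by
  obtain ⟨Ω, _, w, b₁, b₂, -⟩ := Points.mk_eq_mk_iff.1 h
  have e : w (IsLocalRing.closedPoint Ω) = T.hom t := by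
    have h1 : b₁.left ≫ T.left.fromSpecResidueField t ≫ T.hom = w := Over.w b₁
    rw [← h1, Scheme.Hom.comp_apply, Scheme.Hom.comp_apply]
    exact congrArg _ (Scheme.fromSpecResidueField_apply _ _)
  have e' : w (IsLocalRing.closedPoint Ω) = T'.hom t' := by
    have h1 : b₂.left ≫ T'.left.fromSpecResidueField t' ≫ T'.hom = w := Over.w b₂
    rw [← h1, Scheme.Hom.comp_apply, Scheme.Hom.comp_apply]
    exact congrArg _ (Scheme.fromSpecResidueField_apply _ _)
  exact e.symm.trans e'

/-- In a quasi-separated space an affine chart over an affine open of `S` is quasi-compact over its image. -/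
theorem qc_of_qs {X : Sp S} (hqs : IsQuasiSeparatedSp X) {V : Over S} [IsAffine V.left] {S0 : S.Opens}
    (hS0 : IsAffineOpen S0) (hV : ∀ v, V.hom v ∈ S0) (a : (yon S).obj V ⟶ X) {T P : Over S}
    (g : (yon S).obj T ⟶ X) (hg : ∀ t, Points.ofPt g t ∈ Set.range (Points.ofPt a)) {z : P ⟶ V} {π : P ⟶ T}
    (sq : IsPullback ((yon S).map z) ((yon S).map π) a g) : QuasiCompact π.left := by
  haveI hq : QuasiCompact (prod.lift z π).left := hqs.2 _ _ _ (isPullback_diag_pair sq)
  have hT : ∀ t, T.hom t ∈ S0 := fun t => by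
    obtain ⟨v, hv⟩ := hg t
    exact hom_eq_of_ofPt_eq hv ▸ hV v
  have hrV : Set.range V.hom ⊆ Set.range S0.ι := by
    rw [Scheme.Opens.range_ι]; rintro _ ⟨v, rfl⟩; exact hV v
  have hrT : Set.range T.hom ⊆ Set.range S0.ι := by
    rw [Scheme.Opens.range_ι]; rintro _ ⟨t, rfl⟩; exact hT t
  let V0 := IsOpenImmersion.lift S0.ι V.hom hrV
  let T0 := IsOpenImmersion.lift S0.ι T.hom hrT
  have hV0 : V0 ≫ S0.ι = V.hom := IsOpenImmersion.lift_fac _ _ _
  have hT0 : T0 ≫ S0.ι = T.hom := IsOpenImmersion.lift_fac _ _ _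
  have sqp : IsPullback (prod.fst : V ⨯ T ⟶ V).left (prod.snd : V ⨯ T ⟶ T).left V.hom T.hom :=
    Over.isPullback_of_binaryFan_isLimit (BinaryFan.mk (prod.fst : V ⨯ T ⟶ V) (prod.snd : V ⨯ T ⟶ T)) (prodIsProd V T)
  have sq0 : IsPullback (prod.fst : V ⨯ T ⟶ V).left (prod.snd : V ⨯ T ⟶ T).left V0 T0 := by
    refine IsPullback.of_isLimit' ⟨(cancel_mono S0.ι).1 (by rw [Category.assoc, Category.assoc, hV0, hT0, sqp.w])⟩
      (PullbackCone.IsLimit.mk _ (fun s => sqp.lift s.fst s.snd (by rw [← hV0, ← hT0, reassoc_of% s.condition]))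
        (fun s => sqp.lift_fst _ _ _) (fun s => sqp.lift_snd _ _ _)
        (fun s m h1 h2 => sqp.hom_ext (by rw [sqp.lift_fst, h1]) (by rw [sqp.lift_snd, h2])))
  haveI : IsAffine S0.toScheme := hS0
  haveI : QuasiCompact V0 := quasiCompact_of_compactSpace _
  haveI : QuasiCompact (prod.snd : V ⨯ T ⟶ T).left :=
    MorphismProperty.of_isPullback (P := @QuasiCompact) sq0 ‹_›
  rw [← prod.lift_snd z π, Over.comp_left]
  infer_instance

/-- A point has an affine etale chart over an affine open of the base. -/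
theorem exists_chart_through (X : Space S) (x : Points X.obj) :
    ∃ (V : Over S) (a : (yon S).obj V ⟶ X.obj) (S0 : S.Opens), IsAffine V.left ∧ RepWith @Etale a ∧
      IsAffineOpen S0 ∧ (∀ v, V.hom v ∈ S0) ∧ x ∈ Set.range (Points.ofPt a) := by
  obtain ⟨U₀, p, hpe, hps⟩ := X.2.atlas
  obtain ⟨u, rfl⟩ := surjective_ofPt hps x
  obtain ⟨S0, hS0, huS, -⟩ := exists_isAffineOpen_mem_and_subset (x := U₀.hom u) (U := (⊤ : S.Opens)) trivial
  obtain ⟨A, hA, huA, hAS⟩ := exists_isAffineOpen_mem_and_subset (x := u) (U := U₀.hom ⁻¹ᵁ S0) huS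
  let o : Over.mk (A.ι ≫ U₀.hom) ⟶ U₀ := Over.homMk A.ι rfl
  exact ⟨Over.mk (A.ι ≫ U₀.hom), (yon S).map o ≫ p, S0, hA,
    repWith_comp (repWith_yon_map (inferInstanceAs (Etale A.ι))) hpe, hS0, fun v => hAS v.2,
    ⟨⟨u, huA⟩, ofPt_yon_map_comp o p _⟩⟩

/-- A point of codimension zero in the image of a chart quasi-compact over its image has a scheme neighbourhood. -/
theorem exists_open_codimZero (X : Space S) {V : Over S} [IsAffine V.left] {a : (yon S).obj V ⟶ X.obj}
    (ha : RepWith @Etale a)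
    (hqc : ∀ {T P : Over S} (g : (yon S).obj T ⟶ X.obj) {z : P ⟶ V} {π : P ⟶ T},
      (∀ t, Points.ofPt g t ∈ Set.range (Points.ofPt a)) →
        IsPullback ((yon S).map z) ((yon S).map π) a g → QuasiCompact π.left)
    {x : Points X.obj} (hx : HasAt (fun U u => ringKrullDim ↥(U.presheaf.stalk u) = 0) X.obj x)
    (hxa : x ∈ Set.range (Points.ofPt a)) :
    ∃ (X' : Space S) (j : X' ⟶ X), RepWith @IsOpenImmersion j.hom ∧ X'.obj.obj.IsRepresentable ∧
      x ∈ Set.range (Points.map j.hom) := by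
  obtain ⟨u, rfl⟩ := hxa
  have hu0 := (hasAt_ringKrullDim_iff X.2 _ 0).1 hx V a u ha rfl
  have hI : IsOpen (Set.range (Points.ofPt a)) := (isOpenMap_ofPt_of_etale ha).isOpen_range
  let I := Set.range (Points.ofPt a)
  have hr : Set.range (Points.map a) = I := by
    simp only [I]
    rw [ofPt_comp_eq_map, Set.range_comp, (Points.schemeHomeo V).surjective.range_eq, Set.image_univ]
  obtain ⟨a₁, ha₁⟩ := exists_fac_subι a hr.le
  let X₁ : Space S := subSpace X I hI
  have hsq : IsPullback (𝟙 _) a₁ a (subι X.obj I) :=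
    IsPullback.of_isLimit' ⟨by rw [Category.id_comp, ha₁]⟩ (PullbackCone.IsLimit.mk _ (fun s => s.fst)
      (fun s => Category.comp_id _)
      (fun s => (cancel_mono (subι X.obj I)).1 (by rw [Category.assoc, ha₁, s.condition]))
      (fun s m h1 _ => by rw [← h1]; exact (Category.comp_id m).symm))
  have hae : RepWith @Etale a₁ := repWith_of_isPullback hsq ha
  have hqa : RepWith @QuasiCompact a₁ := ⟨hae.1, fun T P g fst snd sq => by
    obtain ⟨z, rfl⟩ := (yon S).map_surjective fst
    have sq' := isPullback_comp_mono sq (subι X.obj I)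
    rw [ha₁] at sq'
    exact hqc _ (fun t => range_map_comp_subι X.obj I g t) sq'⟩
  have W : ∀ n, Univ (X := X₁.obj) a₁ n := fun n => (nonempty_univ a₁ isSeparated_hom hae n).some
  obtain ⟨N, hN⟩ := exists_empty (X := X₁) hae hqa W
  classical
  let y : Points X₁.obj := Points.ofPt a₁ u
  have hex : ∃ n, y ∉ img (W n) := ⟨N, by rw [hN]; exact id⟩
  have hm : y ∉ img (W (Nat.find hex)) := Nat.find_spec hex
  have hm0 : Nat.find hex ≠ 0 := fun h => by
    rw [h] at hm
    exact hm ((range_zero (W 0)).ge ⟨u, rfl⟩)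
  obtain ⟨n, hn⟩ : ∃ n, Nat.find hex = n + 1 := ⟨Nat.find hex - 1, by omega⟩
  have hyn : y ∈ img (W n) := not_not.1 (Nat.find_min hex (show n < Nat.find hex by omega))
  rw [hn] at hm
  let G : Set (Points X₁.obj) := img (W n) \ closure (img (W (n + 1)))
  have hG : IsOpen G := (isOpen_img hae _).sdiff isClosed_closure
  have hyc : y ∉ closure (img (W (n + 1))) := fun hy => by
    have huc : u ∈ closure (Points.ofPt a₁ ⁻¹' img (W (n + 1))) := by
      rw [← (isOpenMap_ofPt_of_etale hae).preimage_closure_eq_closure_preimage (Points.continuous_ofPt a₁)]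
      exact hy
    obtain ⟨z, hz⟩ := (yon S).map_surjective (hae.1.fst ((yon S).map ((W (n + 1)).x 0) ≫ a₁))
    have sq : IsPullback ((yon S).map z) ((yon S).map (hae.1.snd ((yon S).map ((W (n + 1)).x 0) ≫ a₁))) a₁
        ((yon S).map ((W (n + 1)).x 0) ≫ a₁) := hz ▸ hae.1.isPullback _
    have hpre : Points.ofPt a₁ ⁻¹' img (W (n + 1)) = z.left '' Set.univ := by
      ext v
      refine ⟨fun ⟨w, hw⟩ => ?_, ?_⟩
      · obtain ⟨p, hp, -⟩ := (ofPt_eq_ofPt_iff sq v w).1 hw.symm
        exact ⟨p, trivial, hp⟩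
      · rintro ⟨p, -, rfl⟩
        exact ⟨_, ((ofPt_eq_ofPt_iff sq _ _).2 ⟨p, rfl, rfl⟩).symm⟩
    rw [hpre] at huc
    haveI := (W (n + 1)).compact inferInstance hqa
    let π := hae.1.snd ((yon S).map ((W (n + 1)).x 0) ≫ a₁)
    haveI : QuasiCompact π.left := hqa.2 _ _ _ sq
    haveI : CompactSpace ↥(hae.1.pullback ((yon S).map ((W (n + 1)).x 0) ≫ a₁)).left :=
      QuasiCompact.compactSpace_of_compactSpace π.left
    haveI : QuasiCompact z.left := quasiCompact_of_compactSpace _
    obtain ⟨p, -, hp⟩ := FlatLocus.exists_specializes_of_mem_closure_image z.left isClosed_univ huc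
    have := eq_of_ringKrullDim_stalk_eq_zero hu0 hp
    exact hm (hpre.ge ⟨p, trivial, this⟩)
  have hrep := isRepresentable_of_stratum (X := X₁) hae (W n) (W (n + 1)) hG
    (fun w hw => ⟨hw.1, fun h => hw.2 (subset_closure h)⟩)
  refine ⟨⟨subSp X₁.obj G, isAlgSpace_subSp X₁.2 hG⟩,
    ObjectProperty.homMk (subι X₁.obj G ≫ subι X.obj I), repWith_comp (repWith_subι _ _ hG) (repWith_subι _ _ hI),
    hrep, ?_⟩
  obtain ⟨w, hw⟩ := (range_map_subι X₁.obj G).ge (show y ∈ G from ⟨hyn, hyc⟩)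
  refine ⟨w, ?_⟩
  show Points.map (subι X₁.obj G ≫ subι X.obj I) w = _
  rw [Points.map_comp, hw]
  exact (Points.map_ofPt a₁ _ u).trans (by rw [ha₁])

/-- A finite etale cover by a scheme makes a space decent. -/
theorem isDecent_of_finite_etale (X : Space S) {U : Over S} (a : (yon S).obj U ⟶ X.obj) (hf : RepWith @IsFinite a)
    (he : RepWith @Etale a) (hs : RepWith @Surjective a) : IsDecent X.obj :=
  isDecent_of_qc_etale_surjective (IsAlgSpace.yon_obj U) X.2 a
    (isQuasiCompactMor_of_repWith (repWith_mono (fun _ _ g (hg : IsFinite g) => (inferInstance : QuasiCompact g)) hf))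
    (fun _ _ hφ => repWith_comp hφ he) (surjective_map_of_repWith hs) (isDecent_yon U)

/-- Zariski locally quasi-separated spaces are decent. -/
theorem isDecent_of_zariski_qs (X : Space S) {ι : Type u} (Xi : ι → Space S) (j : ∀ i, Xi i ⟶ X)
    (hj : IsZarCover (fun i => (Xi i).obj) (fun i => (j i).hom)) (hq : ∀ i, IsQuasiSeparatedSp (Xi i).obj) :
    IsDecent X.obj :=
  isDecent_of_openCover X.2 (fun i => (Xi i).obj) (fun i => (j i).hom) hj.1 hj.2 (fun i => (Xi i).2) fun i =>
    isDecent_of_qs (Xi i).2 (isTerminalYonBase.from _) (isQuasiSeparatedMor_toBase (hq i) _)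

/-- A dense open subscheme containing the points of codimension zero. -/
theorem exists_dense_codimZero (X : Space S) (hd : IsDecent X.obj)
    (H : ∀ x : Points X.obj, HasAt (fun U u => ringKrullDim ↥(U.presheaf.stalk u) = 0) X.obj x →
      ∃ (X' : Space S) (j : X' ⟶ X), RepWith @IsOpenImmersion j.hom ∧ X'.obj.obj.IsRepresentable ∧
        x ∈ Set.range (Points.map j.hom)) :
    ∃ (X' : Space S) (j : X' ⟶ X), RepWith @IsOpenImmersion j.hom ∧ X'.obj.obj.IsRepresentable ∧
      Dense (Set.range (Points.map j.hom)) ∧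
      ∀ x : Points X.obj, HasAt (fun U u => ringKrullDim ↥(U.presheaf.stalk u) = 0) X.obj x →
        x ∈ Set.range (Points.map j.hom) := by
  obtain ⟨X₀, j₀, hj₀, hr₀, hd₀⟩ := exists_dense_open_subscheme X hd
  obtain ⟨X', j, hj, hrep, hmax⟩ := Groth.Agent.S10197.result X
  have key : ∀ (X'' : Space S) (j'' : X'' ⟶ X), RepWith @IsOpenImmersion j''.hom → X''.obj.obj.IsRepresentable →
      Set.range (Points.map j''.hom) ⊆ Set.range (Points.map j.hom) := fun X'' j'' h1 h2 => by
    obtain ⟨k, hk⟩ := hmax X'' j'' h1 h2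
    rintro _ ⟨z, rfl⟩
    exact ⟨Points.map k.hom z, by rw [← Points.map_comp]; exact congrArg (fun φ => Points.map φ z) (congrArg (·.hom) hk)⟩
  refine ⟨X', j, hj, hrep, hd₀.mono (key X₀ j₀ hj₀ hr₀), fun x hx => ?_⟩
  obtain ⟨X'', j'', h1, h2, h3⟩ := H x hx
  exact key X'' j'' h1 h2 h3

end Groth.Agent.StratX
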