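import Groth.Agent.StratX.Strata
import Groth.Agent.ASp.DecentQS
import Groth.Agent.ASp.QSBase
import Groth.Agent.ASp.QcMonoPoint
import Groth.Agent.ASp.Morph
/-!
The filtration of an algebraic space by the number of geometric points of an affine chart.
-/

set_option autoImplicit false
set_option backward.isDefEq.respectTransparency false
set_option backward.isDefEq.respectTransparency.types false

universe u

open CategoryTheory CategoryTheory.Limits AlgebraicGeometry Opposite

namespace Groth.Agent.StratX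

open _root_.AlgSp Groth.Agent.ASp

variable {S : Scheme.{u}}

/-- The open subspace on an open set of points. -/
noncomputable def subSpace (X : Space S) (I : Set (Points X.obj)) (h : IsOpen I) : Space S :=
  ⟨subSp X.obj I, isAlgSpace_subSp X.2 h⟩

/-- Its inclusion. -/
noncomputable def subHom (X : Space S) (I : Set (Points X.obj)) (h : IsOpen I) : subSpace X I h ⟶ X :=
  ObjectProperty.homMk (subι X.obj I)

theorem exists_subHom {X : Space S} {I I' : Set (Points X.obj)} (h : IsOpen I) (h' : IsOpen I') (hle : I' ⊆ I) :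
    ∃ k : subSpace X I' h' ⟶ subSpace X I h, k ≫ subHom X I h = subHom X I' h' := by
  obtain ⟨k, hk⟩ := exists_fac_subι (subι X.obj I') (W := I) (by rw [range_map_subι]; exact hle)
  exact ⟨ObjectProperty.homMk k, ObjectProperty.hom_ext _ hk⟩

theorem isIso_subι_univ {X : Sp S} {I : Set (Points X)} (hI : I = Set.univ) : IsIso (subι X I) := by
  obtain ⟨k, hk⟩ := exists_fac_subι (𝟙 X) (W := I) (by rw [hI]; exact Set.subset_univ _)
  exact ⟨k, by rw [← cancel_mono (subι X I), Category.assoc, hk, Category.comp_id, Category.id_comp], hk⟩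

theorem range_subHom {X : Space S} {I I' : Set (Points X.obj)} (h : IsOpen I) (h' : IsOpen I')
    (k : subSpace X I' h' ⟶ subSpace X I h) (hk : k ≫ subHom X I h = subHom X I' h') :
    Set.range (Points.map k.hom) = Points.map (subι X.obj I) ⁻¹' I' := by
  have hk' : k.hom ≫ subι X.obj I = subι X.obj I' := congrArg (·.hom) hk
  refine subset_antisymm ?_ fun x hx => ?_
  · rintro _ ⟨y, rfl⟩
    show Points.map (subι X.obj I) (Points.map k.hom y) ∈ I'
    rw [← Points.map_comp, hk']
    exact (range_map_subι X.obj I').le ⟨y, rfl⟩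
  · obtain ⟨y, hy⟩ := (range_map_subι X.obj I').ge hx
    refine ⟨y, injective_points_map_of_mono (subι X.obj I) ?_⟩
    rw [← Points.map_comp, hk', hy]

theorem isPullback_comp_mono {C : Type*} [Category C] {P A B Y Z : C} {p : P ⟶ A} {q : P ⟶ B} {f : A ⟶ Y}
    {g : B ⟶ Y} (sq : IsPullback p q f g) (j : Y ⟶ Z) [Mono j] : IsPullback p q (f ≫ j) (g ≫ j) :=
  IsPullback.of_isLimit' ⟨by rw [reassoc_of% sq.w]⟩
    (PullbackCone.IsLimit.mk _ (fun s => sq.lift s.fst s.snd ((cancel_mono j).1 (by simpa using s.condition)))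
      (fun s => sq.lift_fst _ _ _) (fun s => sq.lift_snd _ _ _)
      (fun s m h1 h2 => sq.hom_ext (by rw [sq.lift_fst, h1]) (by rw [sq.lift_snd, h2])))

variable {X : Space S} {V : Over S} {a : (yon S).obj V ⟶ X.obj}

theorem chart_lift (ha : RepWith @Etale a) {n : ℕ} {U : Univ a n} (Q : VQuot a U) (h : IsOpen (img U)) :
    ∃ f : (yon S).obj Q.Vp ⟶ (subSpace X (img U) h).obj, f ≫ subι X.obj (img U) = Q.f ∧
      RepWith @Etale f ∧ RepWith @Surjective f := by
  have hr : Set.range (Points.map Q.f) = img U := by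
    rw [← range_f Q]
    conv_rhs => rw [ofPt_comp_eq_map, Set.range_comp, (Points.schemeHomeo Q.Vp).surjective.range_eq, Set.image_univ]
  obtain ⟨f, hf⟩ := exists_fac_subι Q.f hr.le
  refine ⟨f, hf, ?_⟩
  have sq : IsPullback (𝟙 _) f Q.f (subι X.obj (img U)) :=
    IsPullback.of_isLimit' ⟨by rw [Category.id_comp, hf]⟩ (PullbackCone.IsLimit.mk _ (fun s => s.fst)
      (fun s => Category.comp_id _)
      (fun s => (cancel_mono (subι X.obj (img U))).1 (by rw [Category.assoc, hf, s.condition]))
      (fun s m h1 _ => by rw [← h1]; exact (Category.comp_id m).symm))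
  have he : RepWith @Etale f := repWith_of_isPullback sq Q.etale_f
  refine ⟨he, (repWith_surjective_iff he.1).2 fun y => ?_⟩
  obtain ⟨v, hv⟩ := hr.ge ((range_map_subι X.obj (img U)).le ⟨y, rfl⟩)
  exact ⟨v, injective_points_map_of_mono (subι X.obj (img U)) (by rw [← Points.map_comp, hf, hv])⟩

/-- The filtration by strata of an affine etale surjective chart. -/
theorem exists_filtration [IsAffine V.left] (ha : RepWith @Etale a) (has : RepWith @Surjective a)
    (W : ∀ n, Univ a n) :
    ∃ (Uo : ℕ → Space S) (j : ∀ p, Uo p ⟶ X) (k : ∀ p, Uo (p + 1) ⟶ Uo p) (T : ℕ → Space S) (i : ∀ p, T p ⟶ Uo p),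
      (∀ p, RepWith @IsOpenImmersion (j p).hom) ∧ (∀ p, k p ≫ j p = j (p + 1)) ∧ IsIso (j 1) ∧
      (∀ p, IsRedInduced (Set.range (Points.map (k p).hom))ᶜ (i p).hom) ∧
      (∀ p, Set.range (Points.map (j (p + 1)).hom) = img (W p)) ∧
      (∀ x : Points X.obj, (∃ q : FieldPt X.obj, Points.mk q = x ∧ RepWith @QuasiCompact q.toHom) →
        ∃ p, 1 ≤ p ∧ x ∈ Set.range (Points.map ((i p) ≫ (j p)).hom)) ∧
      ∀ p, 1 ≤ p → ∃ (Vp : Over S) (f : (yon S).obj Vp ⟶ (Uo p).obj), Vp.left.IsSeparated ∧
        ((CompactSpace ↥V.left → RepWith @QuasiCompact a → CompactSpace ↥Vp.left)) ∧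
        RepWith @Etale f ∧ RepWith @Surjective f ∧
        ∀ (P : Sp S) (fst : P ⟶ (T p).obj) (snd : P ⟶ (yon S).obj Vp), IsPullback fst snd (i p).hom f → IsIso fst := by
  have hV : IsSeparated V.hom := isSeparated_hom
  have Q : ∀ n, VQuot a (W n) := fun n => (nonempty_vquot a X.2 ha (W n)).some
  let I : ℕ → Set (Points X.obj) := fun p => img (W (p - 1))
  have hI : ∀ p, IsOpen (I p) := fun p => isOpen_img ha _
  have hle : ∀ p, I (p + 1) ⊆ I p := fun p => by
    cases p with
    | zero => exact subset_rfl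
    | succ q => exact img_succ_subset (W q) (W (q + 1))
  have h1 : I 1 = Set.univ := (range_zero (W 0)).trans (surjective_ofPt has).range_eq
  choose k hk using fun p => exists_subHom (hI p) (hI (p + 1)) (hle p)
  have hcl : ∀ p, IsClosed (Set.range (Points.map (k p).hom))ᶜ := fun p => by
    rw [range_subHom (hI p) (hI (p + 1)) (k p) (hk p)]
    exact ((hI (p + 1)).preimage (Points.continuous_map _)).isClosed_compl
  choose T i hT hi using fun p => exists_redInduced (subSpace X (I p) (hI p)).2 (hcl p)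
  refine ⟨fun p => subSpace X (I p) (hI p), fun p => subHom X (I p) (hI p), k, fun p => ⟨T p, hT p⟩,
    fun p => ObjectProperty.homMk (i p), fun p => repWith_subι _ _ (hI p), hk, ?_, hi,
    fun p => range_map_subι X.obj (I (p + 1)), ?_, ?_⟩
  · haveI : IsIso ((ObjectProperty.ι _).map (subHom X (I 1) (hI 1))) := isIso_subι_univ h1
    exact isIso_of_fully_faithful (ObjectProperty.ι _) _
  · rintro x ⟨q, rfl, hq⟩
    obtain ⟨n, hn⟩ := exists_not_mem ha W q hq
    classical
    let m := Nat.find (p := fun n => Points.mk q ∉ img (W n)) ⟨n, hn⟩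
    have hm : Points.mk q ∉ img (W m) := Nat.find_spec (p := fun n => Points.mk q ∉ img (W n)) ⟨n, hn⟩
    have hm0 : m ≠ 0 := fun h => hm (h ▸ h1.ge (Set.mem_univ _))
    have hm1 : Points.mk q ∈ I m := by
      show Points.mk q ∈ img (W (m - 1))
      exact not_not.1 (Nat.find_min (p := fun n => Points.mk q ∉ img (W n)) ⟨n, hn⟩ (show m - 1 < m by omega))
    obtain ⟨y, hy⟩ := (range_map_subι X.obj (I m)).ge hm1
    obtain ⟨z, hz⟩ := (hi m).2.1.ge (show y ∈ (Set.range (Points.map (k m).hom))ᶜ by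
      rw [range_subHom (hI m) (hI (m + 1)) (k m) (hk m)]
      intro hy'
      exact hm (hy ▸ hy'))
    refine ⟨m, Nat.one_le_iff_ne_zero.2 hm0, z, ?_⟩
    show Points.map (i m ≫ subι X.obj (I m)) z = _
    rw [Points.map_comp, hz, hy]
  · intro p hp
    obtain ⟨n, rfl⟩ : ∃ n, p = n + 1 := ⟨p - 1, by omega⟩
    obtain ⟨f, hf, hfe, hfs⟩ := chart_lift ha (Q n) (hI (n + 1))
    refine ⟨(Q n).Vp, f, (Q n).sep, fun hc hqa => ?_, hfe, hfs, fun P fst snd sq => ?_⟩
    · haveI := (W n).compact hc hqa
      haveI := (Q n).surjective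
      exact (Q n).q.left.surjective.compactSpace (Q n).q.left.continuous
    · have sq' := isPullback_comp_mono sq (subι X.obj (img (W n)))
      rw [hf] at sq'
      refine isIso_fst ha hV (W (n + 1)) (Q n) _ ?_ sq'
      rintro _ ⟨y, rfl⟩
      have hy : Points.map (i (n + 1)) y ∈ (Set.range (Points.map (k (n + 1)).hom))ᶜ := (hi (n + 1)).2.1.le ⟨y, rfl⟩
      rw [range_subHom (hI (n + 1)) (hI (n + 2)) (k (n + 1)) (hk (n + 1))] at hy
      exact ⟨(range_map_subι X.obj (img (W n))).le ⟨Points.map (i (n + 1)) y, (Points.map_comp _ _ _).symm⟩,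
        fun h' => hy (by rw [Set.mem_preimage, ← Points.map_comp]; exact h')⟩

/-- A quasi-compact chart has bounded strata. -/
theorem exists_empty (ha : RepWith @Etale a) [CompactSpace ↥V.left] (hqa : RepWith @QuasiCompact a)
    (W : ∀ n, Univ a n) : ∃ N, img (W N) = ∅ := by
  obtain ⟨z, hz⟩ := (yon S).map_surjective (ha.1.fst a)
  have sq : IsPullback ((yon S).map z) ((yon S).map (ha.1.snd a)) a a := hz ▸ ha.1.isPullback _
  let π := ha.1.snd a
  haveI : Etale π.left := ha.2 _ _ _ sq
  haveI : QuasiCompact π.left := hqa.2 _ _ _ sq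
  haveI : CompactSpace ↥(ha.1.pullback a).left := QuasiCompact.compactSpace_of_compactSpace π.left
  haveI : LocallyQuasiFinite π.left := Groth.Agent.Unibranch.locallyQuasiFinite_of_etale _
  obtain ⟨N, hN⟩ := EtaleSplit.exists_bound_gpts π.left
  refine ⟨N, Set.range_eq_empty_iff.2 ⟨fun w => ?_⟩⟩
  let k : Over.mk ((W N).W.left.fromSpecResidueField w ≫ (W N).W.hom) ⟶ (W N).W :=
    Over.homMk ((W N).W.left.fromSpecResidueField w) rfl
  choose l hl using fun i => (yon S).map_surjective (sq.lift ((yon S).map (k ≫ (W N).x i))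
    ((yon S).map (k ≫ (W N).x 0)) (by
      rw [Functor.map_comp, Functor.map_comp, Category.assoc, Category.assoc, (W N).isTup.over i 0]))
  have hlz : ∀ i, l i ≫ z = k ≫ (W N).x i := fun i =>
    (yon S).map_injective (by rw [Functor.map_comp, hl, sq.lift_fst])
  have hlπ : ∀ i, l i ≫ π = k ≫ (W N).x 0 := fun i =>
    (yon S).map_injective (by rw [Functor.map_comp, hl, sq.lift_snd])
  let G : Fin (N + 1) → EtaleSplit.GPts π.left (k ≫ (W N).x 0).left :=
    fun i => ⟨(l i).left, congrArg (·.left) (hlπ i)⟩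
  have hG : Function.Injective G := fun i j hij => by
    by_contra hne
    have e1 : l i = l j := Over.OverMorphism.ext (congrArg Subtype.val hij)
    have e2 : k ≫ (W N).x i = k ≫ (W N).x j := by rw [← hlz, ← hlz, e1]
    exact (W N).isTup.disj i j hne _ ((agree_comp k _ _ (IsLocalRing.closedPoint _)).1 (by rw [e2]; rfl))
  obtain ⟨hf, hc⟩ := hN _ (k ≫ (W N).x 0).left
  have := (Nat.card_le_card_of_injective G hG).trans hc
  simp at this

end Groth.Agent.StratX
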