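import Groth.Agent.StratX.Main
import Groth.Agent.ASp.Decent
import Groth.Agent.ASp.LqfRep
import Groth.Agent.S10197
/-!
Decent spaces contain dense open subschemes.
-/

set_option autoImplicit false
set_option backward.isDefEq.respectTransparency false
set_option backward.isDefEq.respectTransparency.types false

universe u

open CategoryTheory CategoryTheory.Limits AlgebraicGeometry Opposite

namespace Groth.Agent.StratX

open _root_.AlgSp Groth.Agent.ASp

variable {S : Scheme.{u}} {X : Space S} {V : Over S} {a : (yon S).obj V ⟶ X.obj}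

/-- An open set of points inside one stratum is a scheme. -/
theorem isRepresentable_of_stratum (ha : RepWith @Etale a) [IsAffine V.left] {n : ℕ} (U : Univ a n)
    (U' : Univ a (n + 1)) {G : Set (Points X.obj)} (hG : IsOpen G) (hsub : G ⊆ img U \ img U') :
    (subSp X.obj G).obj.IsRepresentable := by
  obtain ⟨Q⟩ := nonempty_vquot a X.2 ha U
  obtain ⟨P, fst, snd, sqP⟩ : ∃ (P : Over S) (fst : (yon S).obj P ⟶ subSp X.obj G) (snd : (yon S).obj P ⟶ (yon S).obj Q.Vp),
      IsPullback fst snd (subι X.obj G) Q.f := by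
    have hrep := (repWith_subι X.obj G hG).1
    exact ⟨_, _, _, hrep.isPullback Q.f⟩
  haveI := isIso_fst ha isSeparated_hom U' Q (subι X.obj G) (by rw [range_map_subι]; exact hsub) sqP
  exact isRepresentable_of_iso_yon (asIso fst)

/-- Some nonempty open subset of the image of a chart of a decent space lies in one stratum. -/
theorem exists_open_stratum (hd : IsDecent X.obj) (ha : RepWith @Etale a) [IsAffine V.left] [Nonempty ↥V.left]
    (W : ∀ n, Univ a n) :
    ∃ (n : ℕ) (G : Set (Points X.obj)), IsOpen G ∧ G.Nonempty ∧ G ⊆ img (W n) \ img (W (n + 1)) := by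
  by_contra hno
  push Not at hno
  let Good : ℕ → V.left.Opens → Prop := fun n B =>
    IsAffineOpen B ∧ (B : Set ↥V.left).Nonempty ∧ Points.ofPt a '' (B : Set ↥V.left) ⊆ img (W n)
  have h0 : Good 0 ⊤ := ⟨isAffineOpen_top _, ⟨Classical.arbitrary _, trivial⟩, by
    rw [range_zero]; exact Set.image_subset_range _ _⟩
  have hstep : ∀ n (B : V.left.Opens), Good n B → ∃ B' : V.left.Opens, B' ≤ B ∧ Good (n + 1) B' := by
    rintro n B ⟨-, hne, hB⟩
    obtain ⟨x, ⟨v, hv, rfl⟩, hx⟩ : ∃ x ∈ Points.ofPt a '' (B : Set ↥V.left), x ∈ img (W (n + 1)) := by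
      by_contra! h
      exact hno n _ (isOpenMap_ofPt_of_etale ha _ B.2) (hne.image _) fun y hy => ⟨hB hy, h y hy⟩
    obtain ⟨B', hB', hvB, hle⟩ := exists_isAffineOpen_mem_and_subset (x := v)
      (U := B ⊓ ⟨Points.ofPt a ⁻¹' img (W (n + 1)), (isOpen_img ha _).preimage (Points.continuous_ofPt a)⟩)
      ⟨hv, hx⟩
    exact ⟨B', fun z hz => (hle hz).1, hB', ⟨v, hvB⟩, Set.image_subset_iff.2 fun z hz => (hle hz).2⟩
  choose next hle hgood using hstep
  let B : ∀ n : ℕ, {B : V.left.Opens // Good n B} := fun n =>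
    n.rec ⟨⊤, h0⟩ fun n p => ⟨next n p.1 p.2, hgood n p.1 p.2⟩
  have hBle : ∀ n, (B (n + 1)).1 ≤ (B n).1 := fun n => hle n (B n).1 (B n).2
  let t : ℕ → Set (WithConstructibleTopology ↥V.left) := fun n =>
    WithTopology.ofTopology ⁻¹' ((B n).1 : Set ↥V.left)
  have hclosed : ∀ n, IsClosed (t n) := fun n => by
    rw [WithConstructibleTopology.isClosed_iff]
    refine @IsClosed.mk _ (constructibleTopology ↥V.left) _ ?_
    exact IsCompact.isOpen_constructibleTopology_of_isClosed (X := ↥V.left)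
      (s := ((B n).1 : Set ↥V.left)ᶜ) (by simpa using (B n).2.1.isCompact) (B n).1.2.isClosed_compl
  obtain ⟨v, hv⟩ := IsCompact.nonempty_iInter_of_sequence_nonempty_isCompact_isClosed t
    (fun n z hz => hBle n hz) (fun n => (B n).2.2.1.preimage (WithTopology.ofTopology_surjective _))
    (hclosed 0).isCompact hclosed
  obtain ⟨q, hq, -, hqc⟩ := hd (Points.ofPt a (WithTopology.ofTopology v))
  obtain ⟨N, hN⟩ := exists_not_mem ha W q hqc
  exact hN (hq ▸ (B N).2.2.2 ⟨_, Set.mem_iInter.1 hv N, rfl⟩)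

/-- A decent space has a dense open subspace which is a scheme. -/
theorem exists_dense_open_subscheme (X : Space S) (hd : IsDecent X.obj) :
    ∃ (X' : Space S) (j : X' ⟶ X), RepWith @IsOpenImmersion j.hom ∧ X'.obj.obj.IsRepresentable ∧
      Dense (Set.range (Points.map j.hom)) := by
  obtain ⟨X', j, hj, hrep, hmax⟩ := Groth.Agent.S10197.result X
  refine ⟨X', j, hj, hrep, dense_iff_inter_open.2 fun O hO ⟨x, hx⟩ => ?_⟩
  obtain ⟨U₀, p, hpe, hps⟩ := X.2.atlas
  obtain ⟨u, rfl⟩ := surjective_ofPt hps x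
  obtain ⟨A, hA, huA, hAO⟩ := exists_isAffineOpen_mem_and_subset (x := u)
    (U := ⟨Points.ofPt p ⁻¹' O, hO.preimage (Points.continuous_ofPt p)⟩) hx
  let V : Over S := Over.mk (A.ι ≫ U₀.hom)
  let o : V ⟶ U₀ := Over.homMk A.ι rfl
  let a : (yon S).obj V ⟶ X.obj := (yon S).map o ≫ p
  have ha : RepWith @Etale a := repWith_comp (repWith_yon_map (inferInstanceAs (Etale A.ι))) hpe
  haveI : IsAffine V.left := hA
  haveI : Nonempty ↥V.left := ⟨⟨u, huA⟩⟩
  have W : ∀ n, Univ a n := fun n => (nonempty_univ a isSeparated_hom ha n).some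
  obtain ⟨n, G, hG, ⟨y, hy⟩, hGs⟩ := exists_open_stratum hd ha W
  obtain ⟨k, hk⟩ := hmax ⟨subSp X.obj G, isAlgSpace_subSp X.2 hG⟩ (ObjectProperty.homMk (subι X.obj G))
    (repWith_subι _ _ hG) (isRepresentable_of_stratum ha (W n) (W (n + 1)) hG hGs)
  have hk' : k.hom ≫ j.hom = subι X.obj G := congrArg (·.hom) hk
  refine ⟨y, ?_, ?_⟩
  · obtain ⟨w, hw⟩ := (hGs hy).1
    rw [← hw, ofPt_yon_map_comp]
    exact (ofPt_yon_map_comp o p _).symm ▸ hAO ((W n).x 0 |>.left w).2
  · obtain ⟨z, hz⟩ := (range_map_subι X.obj G).ge hy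
    exact ⟨Points.map k.hom z, by rw [← Points.map_comp, hk', hz]⟩

end Groth.Agent.StratX
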