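import Groth.Prelude.Def_AlgSp
import Groth.Prelude.Def_Grpd
/-!
The groupoid scheme of an equivalence relation.
-/

set_option autoImplicit false
set_option backward.isDefEq.respectTransparency false

universe u

open CategoryTheory CategoryTheory.Limits AlgebraicGeometry

namespace Groth.Agent.StratX

variable {S : Scheme.{u}}

/-- An equivalence relation is a groupoid scheme. -/
theorem exists_groupoid {R U : Over S} {s t : R ⟶ U} (h : _root_.AlgSp.IsEqvRel s t) :
    ∃ (e : U.left ⟶ R.left) (i : R.left ⟶ R.left) (c : pullback s.left t.left ⟶ R.left),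
      e ≫ s.left = 𝟙 _ ∧ e ≫ t.left = 𝟙 _ ∧ i ≫ s.left = t.left ∧ i ≫ t.left = s.left ∧
      c ≫ s.left = pullback.snd _ _ ≫ s.left ∧ c ≫ t.left = pullback.fst _ _ ≫ t.left := by
  obtain ⟨e, he1, he2⟩ := (h.equivalence U).refl (𝟙 U)
  obtain ⟨i, hi1, hi2⟩ := (h.equivalence R).symm ⟨𝟙 R, Category.id_comp t, Category.id_comp s⟩
  let P : Over S := Over.mk (pullback.snd s.left t.left ≫ R.hom)
  let pf : P ⟶ R := Over.homMk (pullback.fst s.left t.left) (by
    show _ = pullback.snd _ _ ≫ R.hom
    rw [← Over.w s, ← Category.assoc, pullback.condition, Category.assoc, Over.w t, Over.w s])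
  let ps : P ⟶ R := Over.homMk (pullback.snd s.left t.left) rfl
  have hp : pf ≫ s = ps ≫ t := Over.OverMorphism.ext pullback.condition
  obtain ⟨c, hc1, hc2⟩ := (h.equivalence P).trans (y := ps ≫ t) (x := pf ≫ t) (z := ps ≫ s)
    ⟨pf, rfl, hp⟩ ⟨ps, rfl, rfl⟩
  exact ⟨e.left, i.left, c.left, congrArg (·.left) he2, congrArg (·.left) he1, congrArg (·.left) hi2,
    congrArg (·.left) hi1, congrArg (·.left) hc2, congrArg (·.left) hc1⟩

theorem hom_ext_left {R U : Over S} {s t : R ⟶ U} (h : _root_.AlgSp.IsEqvRel s t) {T : Scheme.{u}}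
    (r r' : T ⟶ R.left) (e₁ : r ≫ t.left = r' ≫ t.left) (e₂ : r ≫ s.left = r' ≫ s.left) : r = r' := by
  let T' : Over S := Over.mk (r ≫ R.hom)
  have hr : r' ≫ R.hom = r ≫ R.hom := by rw [← Over.w s, reassoc_of% e₂]
  exact congrArg (·.left) (h.injective T' (Over.homMk r rfl) (Over.homMk r' hr)
    (Over.OverMorphism.ext e₁) (Over.OverMorphism.ext e₂))

/-- The groupoid scheme of an equivalence relation with chosen unit, inverse and composition. -/
@[reducible] noncomputable def groupoid {R U : Over S} {s t : R ⟶ U} (h : _root_.AlgSp.IsEqvRel s t) (e : U.left ⟶ R.left)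
    (i : R.left ⟶ R.left) (c : pullback s.left t.left ⟶ R.left) (he : e ≫ s.left = 𝟙 _) (he' : e ≫ t.left = 𝟙 _)
    (hi : i ≫ s.left = t.left) (hi' : i ≫ t.left = s.left)
    (hs : c ≫ s.left = pullback.snd _ _ ≫ s.left) (ht : c ≫ t.left = pullback.fst _ _ ≫ t.left) :
    Grpd.GroupoidScheme S where
  U := U.left
  R := R.left
  pU := U.hom
  pR := R.hom
  s := s.left
  t := t.left
  e := e
  i := i
  c := c
  s_over := Over.w s
  t_over := Over.w t
  comp_s α β hab := by rw [Category.assoc, hs, pullback.lift_snd_assoc]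
  comp_t α β hab := by rw [Category.assoc, ht, pullback.lift_fst_assoc]
  assoc α β γ h₁ h₂ := by
    apply hom_ext_left h <;>
      simp only [Category.assoc, hs, ht, pullback.lift_fst_assoc, pullback.lift_snd_assoc]
  e_s := he
  e_t := he'
  comp_e α := by
    apply hom_ext_left h <;>
      simp [hs, ht, he, he']
  e_comp α := by
    apply hom_ext_left h <;>
      simp [hs, ht, he, he']
  i_s := hi
  i_t := hi'
  comp_i α := by
    apply hom_ext_left h <;>
      simp [hs, ht, he, he', hi, hi']
  i_comp α := by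
    apply hom_ext_left h <;>
      simp [hs, ht, he, he', hi, hi']

end Groth.Agent.StratX
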