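import Groth.Agent.StratX.Tuple
import Groth.Agent.StratX.Groupoid
import Groth.Agent.ASp.FreeAct
import Groth.Agent.ASp.FiniteCoprod
import Groth.Agent.ASp.LocP
import Groth.Agent.ASp.Affine
import Groth.Agent.ASp.ClosedIdeal
import Groth.Agent.S0411
import Groth.Agent.S10235
import Groth.Agent.S10236
import Mathlib.AlgebraicGeometry.Morphisms.LocalFlatDescent
/-!
The scheme of unordered tuples of distinct points of a chart.
-/

set_option autoImplicit false
set_option backward.isDefEq.respectTransparency false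
set_option backward.isDefEq.respectTransparency.types false
set_option maxHeartbeats 800000

universe u

open CategoryTheory CategoryTheory.Limits AlgebraicGeometry Opposite

namespace Groth.Agent.StratX

open _root_.AlgSp Groth.Agent.ASp

variable {S : Scheme.{u}} {V : Over S} {X : Sp S} (a : (yon S).obj V ⟶ X)

/-- The quotient of the scheme of tuples by the permutations. -/
structure VQuot {n : ℕ} (U : Univ a n) where
  Vp : Over S
  q : U.W ⟶ Vp
  etale : Etale q.left
  surjective : Surjective q.left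
  finite : IsFinite q.left
  sep : Vp.left.IsSeparated
  f : (yon S).obj Vp ⟶ X
  fac : (yon S).map q ≫ f = (yon S).map (U.x 0) ≫ a
  etale_f : RepWith @Etale f
  glue : ∀ {T : Over S} (h h' : T ⟶ U.W),
    (∃ σ : Equiv.Perm (Fin (n + 1)), ∀ i, h' ≫ U.x i = h ≫ U.x (σ i)) → h ≫ q = h' ≫ q

theorem isFinite_sigmaDesc' {G : Type u} [Finite G] {Z : Scheme.{u}} (W : G → Scheme.{u}) (f : ∀ g, W g ⟶ Z)
    (hf : ∀ g, IsFinite (f g)) : IsFinite (Limits.Sigma.desc f) := by
  obtain ⟨m, ⟨e⟩⟩ := Finite.exists_equiv_fin G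
  let e' : ULift.{u} (Fin m) ≃ G := Equiv.ulift.trans e.symm
  haveI := Groth.Agent.ASp.isFinite_sigmaDesc (fun i => W (e' i)) (fun i => f (e' i)) fun i => hf _
  let r : ∐ W ≅ ∐ fun i => W (e' i) := (Sigma.reindex e' W).symm
  have h : r.inv ≫ Limits.Sigma.desc f = Limits.Sigma.desc fun i => f (e' i) := Sigma.hom_ext _ _ fun i => by
    refine Eq.trans (Eq.trans ((Category.assoc _ _ _).symm.trans (congrArg (· ≫ Limits.Sigma.desc f)
      (Sigma.ι_reindex_hom e' W i))) (Limits.Sigma.ι_desc f (e' i))) ?_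
    exact (Limits.Sigma.ι_desc (fun i => f (e' i)) i).symm
  rw [← MorphismProperty.cancel_left_of_respectsIso @IsFinite r.inv, h]
  infer_instance

theorem isFinLocFree_sigmaDesc {G : Type u} [Finite G] {Z : Scheme.{u}} (W : G → Scheme.{u}) (f : ∀ g, W g ⟶ Z)
    (hf : ∀ g, IsIso (f g)) : Mor2.IsFinLocFree (Limits.Sigma.desc f) :=
  ⟨isFinite_sigmaDesc' W f fun g => inferInstance, IsZariskiLocalAtSource.sigmaDesc fun g => inferInstance,
    IsZariskiLocalAtSource.sigmaDesc fun g => inferInstance⟩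

theorem nonempty_vquot (hX : IsAlgSpace X) (ha : RepWith @Etale a) [IsAffine V.left] {n : ℕ} (U : Univ a n) :
    Nonempty (VQuot a U) := by
  classical
  have hperm : ∀ σ : Equiv.Perm (Fin (n + 1)), IsTup a fun i => U.x (σ i) := fun σ =>
    ⟨fun i j => U.isTup.over _ _, fun i j hij => U.isTup.disj _ _ fun e => hij (σ.injective e)⟩
  choose r hr using fun σ : Equiv.Perm (Fin (n + 1)) => U.exists_lift (hperm σ.symm)
  have hmul : ∀ σ τ, r τ ≫ r σ = r (σ * τ) := fun σ τ => U.hom_ext _ _ fun i => by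
    rw [Category.assoc, hr, hr, hr]; rfl
  have hone : r 1 = 𝟙 _ := U.hom_ext _ _ fun i => by rw [hr, Category.id_comp]; rfl
  let G := ULift.{u} (Equiv.Perm (Fin (n + 1)))
  let ρ : G →* Aut U.W :=
    { toFun := fun σ => ⟨r σ.down, r σ.down⁻¹, by rw [hmul, inv_mul_cancel, hone], by rw [hmul, mul_inv_cancel, hone]⟩
      map_one' := Iso.ext hone
      map_mul' := fun σ τ => Iso.ext (hmul σ.down τ.down).symm }
  have hfree : ∀ (g : G) (w : U.W.left), g ≠ 1 →
      U.W.left.fromSpecResidueField w ≫ (ρ g).hom.left ≠ U.W.left.fromSpecResidueField w := fun g w hg e => by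
    obtain ⟨i, hi⟩ : ∃ i, g.down.symm i ≠ i := by
      by_contra! h
      exact hg (ULift.ext _ _ (Equiv.ext fun i => ((Equiv.symm_apply_eq _).1 (h i)).symm))
    refine U.isTup.disj _ _ hi w ?_
    show _ ≫ (U.x (g.down.symm i)).left = _
    rw [← hr, Over.comp_left]
    exact (Category.assoc _ _ _).symm.trans (congrArg (· ≫ (U.x i).left) e)
  let R : Over S := Over.mk (Limits.Sigma.desc fun _ : G => U.W.hom)
  let c : Cofan fun _ : G => U.W := Cofan.mk R fun g => Over.homMk (Limits.Sigma.ι (fun _ : G => U.W.left) g)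
    (Limits.Sigma.ι_desc (fun _ : G => U.W.hom) g)
  have hc : IsColimit c := by
    refine mkCofanColimit _ (fun t => Over.homMk (Limits.Sigma.desc fun g => (t.inj g).left)
      (Sigma.hom_ext _ _ fun g => by simp [c, R])) (fun t g => Over.OverMorphism.ext (by simp [c, R])) fun t m hm => ?_
    refine Over.OverMorphism.ext (Sigma.hom_ext _ _ fun g => ?_)
    refine Eq.trans ?_ (Limits.Sigma.ι_desc (fun g => (t.inj g).left) g).symm
    exact congrArg (·.left) (hm g)
  let s : c.pt ⟶ U.W := Over.homMk (Limits.Sigma.desc fun _ : G => 𝟙 U.W.left) (Sigma.hom_ext _ _ fun g => by simp [c, R])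
  let t : c.pt ⟶ U.W := Over.homMk (Limits.Sigma.desc fun g : G => (ρ g).hom.left) (Sigma.hom_ext _ _ fun g => by simp [c, R])
  have hs : ∀ g, c.inj g ≫ s = 𝟙 U.W := fun g => Over.OverMorphism.ext (by simp [c, s])
  have ht : ∀ g, c.inj g ≫ t = (ρ g).hom := fun g => Over.OverMorphism.ext (by simp [c, t])
  have hER := isEtaleEqvRel_of_free ρ hfree c hc s t hs ht
  have hsf : Mor2.IsFinLocFree s.left := isFinLocFree_sigmaDesc _ _ fun g => inferInstance
  have htf : Mor2.IsFinLocFree t.left := isFinLocFree_sigmaDesc _ _ fun g =>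
    inferInstanceAs (IsIso ((Over.forget S).map (ρ g).hom))
  obtain ⟨e, i, cc, h1, h2, h3, h4, h5, h6⟩ := exists_groupoid hER.toIsEqvRel
  let 𝒢 := groupoid hER.toIsEqvRel e i cc h1 h2 h3 h4 h5 h6
  haveI := U.etale_zero
  haveI := U.isSeparated_zero
  haveI : LocallyQuasiFinite (U.x 0).left := Groth.Agent.Unibranch.locallyQuasiFinite_of_etale _
  have hcond : ∀ Z : Set ↥𝒢.U, IsClosed Z → Z.Nonempty →
      ∃ u ∈ Z, ∃ W : 𝒢.U.Opens, IsAffineOpen W ∧ ∀ p : ↥𝒢.R, 𝒢.s p = u → 𝒢.t p ∈ W := fun Z _ ⟨u, hu⟩ => by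
    haveI := hsf.1
    haveI : LocallyQuasiFinite s.left := inferInstance
    have hfin : (s.left ⁻¹' {u}).Finite := s.left.finite_preimage_singleton u
    obtain ⟨W, hW, hWm⟩ := Groth.Agent.S0411.result (U.x 0).left (hfin.image t.left).toFinset
    exact ⟨u, hu, W, hW, fun p hp => hWm _ ((hfin.image t.left).mem_toFinset.2 ⟨p, hp, rfl⟩)⟩
  haveI : IsFinite 𝒢.s := hsf.1
  haveI : Flat 𝒢.s := hsf.2.1
  haveI : LocallyOfFinitePresentation 𝒢.s := hsf.2.2
  haveI := FinGrpdLib.mono_j_of_isEqvRel 𝒢 hER.toIsEqvRel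
  obtain ⟨M, m, hm, hpb, hms, hquot⟩ := FinGrpdLib.exists_quotient 𝒢 (FinGrpdLib.orbitsAffine_of_closed 𝒢 hcond)
  have hsep := (Groth.Agent.S10236.result 𝒢 hsf htf hER.toIsEqvRel hcond M m hm hpb hquot).2.2.2
  have hWsep : U.W.left.IsSeparated := ⟨by
    rw [← terminal.comp_from (U.x 0).left]; infer_instance⟩
  let q : U.W ⟶ M := m
  haveI : IsFinite q.left := hm.1
  haveI : Flat q.left := hm.2.1
  haveI : LocallyOfFinitePresentation q.left := hm.2.2
  have hpbo : IsPullback t s q q := by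
    have hw : t ≫ q = s ≫ q := Over.OverMorphism.ext hpb.w
    exact IsPullback.of_map (Over.forget S) hw hpb
  haveI : Surjective q.left := hms
  haveI : Etale q.left := MorphismProperty.of_isPullback_of_descendsAlong (P := @Etale)
    (Q := (@Surjective ⊓ @Flat ⊓ @QuasiCompact)) hpb.flip
    ⟨⟨‹Surjective q.left›, ‹Flat q.left›⟩, inferInstance⟩ hER.etale_left
  have hqe : RepWith @Etale ((yon S).map q) := repWith_yon_map ‹_›
  haveI : Epi ((yon S).map q) := epi_of_etale_surjective hqe (repWith_yon_map ‹Surjective q.left›)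
  have hinv : t ≫ U.x 0 ≫ 𝟙 V = t ≫ U.x 0 := by rw [Category.comp_id]
  have hdesc : (yon S).map t ≫ (yon S).map (U.x 0) ≫ a = (yon S).map s ≫ (yon S).map (U.x 0) ≫ a := by
    have key : ∀ g, (yon S).map (c.inj g ≫ t) ≫ (yon S).map (U.x 0) ≫ a =
        (yon S).map (c.inj g ≫ s) ≫ (yon S).map (U.x 0) ≫ a := fun g => by
      rw [ht, hs, CategoryTheory.Functor.map_id, Category.id_comp, ← Functor.map_comp_assoc]
      show (yon S).map (r g.down ≫ U.x 0) ≫ a = _
      rw [hr]
      exact U.isTup.over _ _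
    refine sigma_hom_ext (ι := G) (X := fun _ => U.W.left) (Limits.Sigma.desc fun _ : G => U.W.hom) _ _ fun g => ?_
    let j : Over.mk (Limits.Sigma.ι (fun _ : G => U.W.left) g ≫ Limits.Sigma.desc fun _ : G => U.W.hom) ⟶ U.W :=
      Over.homMk (𝟙 _) (by simp)
    have hj : (Over.homMk (Limits.Sigma.ι (fun _ : G => U.W.left) g) rfl :
        Over.mk (Limits.Sigma.ι (fun _ : G => U.W.left) g ≫ Limits.Sigma.desc fun _ : G => U.W.hom) ⟶ c.pt) =
        j ≫ c.inj g := Over.OverMorphism.ext (by simp [c, j])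
    have k := key g
    simp only [Functor.map_comp, Category.assoc] at k
    rw [hj]
    simp only [Functor.map_comp, Category.assoc]
    rw [k]
  obtain ⟨f, hf⟩ := exists_desc_of_epi ((yon S).map q) (isPullback_yon_map hpbo) _ hdesc
  have hWe : RepWith @Etale ((yon S).map (U.x 0) ≫ a) := repWith_comp (repWith_yon_map U.etale_zero) ha
  refine ⟨⟨M, q, ‹_›, ‹_›, ‹_›, hsep hWsep, f, hf, repWith_of_locP hX (hX.representable_from_yon _) ?_, ?_⟩⟩
  · intro A B a' b' h' ha' hb' e'
    obtain ⟨a'', rfl⟩ := (yon S).map_surjective a'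
    have ha'' : Etale a''.left := (repWith_yon_map_iff _ _).1 ha'
    have sq := IsPullback.of_hasPullback q a''
    have sql := isPullback_left sq
    haveI : Etale (pullback.fst q a'').left := MorphismProperty.of_isPullback (P := @Etale) sql.flip ha''
    haveI hpe : Etale (pullback.snd q a'').left := MorphismProperty.of_isPullback (P := @Etale) sql ‹_›
    have hps : Surjective (pullback.snd q a'').left := MorphismProperty.of_isPullback (P := @Surjective) sql ‹_›
    refine IsEtLocal.of_precomp (P := @Etale) (pullback.snd q a'').left h'.left hpe hps ?_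
    rw [← Over.comp_left]
    refine etale_of_comp_eq (F := X)
      (repWith_comp (repWith_yon_map (g := pullback.fst q a'') inferInstance) hWe) hb' ?_
    rw [← hf, Functor.map_comp, Category.assoc, ← e', ← Functor.map_comp_assoc, ← sq.w, Functor.map_comp_assoc]
  · rintro T h h' ⟨σ, hσ⟩
    have e : h' = h ≫ (ρ ⟨σ.symm⟩).hom := U.hom_ext _ _ fun i => by
      rw [hσ, Category.assoc]
      show _ = h ≫ r σ.symm ≫ U.x i
      rw [hr]
      rfl
    have e2 := congrArg (h ≫ c.inj (⟨σ.symm⟩ : G) ≫ ·) hpbo.w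
    simp only [reassoc_of% ht, reassoc_of% hs] at e2
    rw [e, Category.assoc, e2]

end Groth.Agent.StratX
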