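import Groth.Agent.StratX.Main
import Groth.Agent.ASp.SchDenseFactor
import Groth.Agent.ASp.LqfRep
import Groth.Agent.ASp.Univ
/-!
The schematic locus of the target of a finite locally free covering.
-/

set_option autoImplicit false
set_option backward.isDefEq.respectTransparency false
set_option backward.isDefEq.respectTransparency.types false

universe u

open CategoryTheory CategoryTheory.Limits AlgebraicGeometry Opposite

namespace Groth.Agent.StratX

open _root_.AlgSp Groth.Agent.ASp

variable {S : Scheme.{u}}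

/-- The target of a finite locally free cover by a scheme with finite sets in affine opens is a scheme. -/
theorem isRepresentable_of_finLocFree_cover {Y : Sp S} (hY : IsAlgSpace Y) {U : Over S} (m : (yon S).obj U ⟶ Y)
    (hm : RepWith _root_.AlgSp.finLocFree m) (hs : RepWith @Surjective m)
    (horb : ∀ T : Finset ↥U.left, ∃ A : U.left.Opens, IsAffineOpen A ∧ ∀ t ∈ T, t ∈ A) : Y.obj.IsRepresentable := by
  obtain ⟨R, t, s, sq⟩ := exists_isPullback_yon hm.1 m
  have hsf : Mor2.IsFinLocFree s.left := hm.2 _ _ _ sq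
  have htf : Mor2.IsFinLocFree t.left := hm.2 _ _ _ sq.flip
  have key : ∀ {T : Over S} (x y : T ⟶ U), (∃ r : T ⟶ R, r ≫ t = x ∧ r ≫ s = y) ↔
      (yon S).map x ≫ m = (yon S).map y ≫ m := fun x y => by
    refine ⟨?_, fun h => ?_⟩
    · rintro ⟨r, rfl, rfl⟩
      simp only [Functor.map_comp, Category.assoc, sq.w]
    · obtain ⟨r, hr⟩ := (yon S).map_surjective (sq.lift ((yon S).map x) ((yon S).map y) h)
      exact ⟨r, (yon S).map_injective (by rw [Functor.map_comp, hr, sq.lift_fst]),
        (yon S).map_injective (by rw [Functor.map_comp, hr, sq.lift_snd])⟩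
  have hER : IsEqvRel s t := ⟨fun T r r' h1 h2 => (yon S).map_injective (sq.hom_ext
      (by rw [← Functor.map_comp, ← Functor.map_comp, h1]) (by rw [← Functor.map_comp, ← Functor.map_comp, h2])),
    fun T => ⟨fun x => (key x x).2 rfl, fun h => (key _ _).2 ((key _ _).1 h).symm,
      fun h h' => (key _ _).2 (((key _ _).1 h).trans ((key _ _).1 h'))⟩⟩
  obtain ⟨e, i, c, h1, h2, h3, h4, h5, h6⟩ := exists_groupoid hER
  let 𝒢 := groupoid hER e i c h1 h2 h3 h4 h5 h6
  haveI : IsFinite 𝒢.s := hsf.1
  haveI : Flat 𝒢.s := hsf.2.1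
  haveI : LocallyOfFinitePresentation 𝒢.s := hsf.2.2
  haveI := FinGrpdLib.mono_j_of_isEqvRel 𝒢 hER
  have hcond : ∀ Z : Set ↥𝒢.U, IsClosed Z → Z.Nonempty →
      ∃ u ∈ Z, ∃ A : 𝒢.U.Opens, IsAffineOpen A ∧ ∀ p : ↥𝒢.R, 𝒢.s p = u → 𝒢.t p ∈ A := fun Z _ ⟨u, hu⟩ => by
    haveI := hsf.1
    haveI : LocallyQuasiFinite s.left := inferInstance
    have hfin : (s.left ⁻¹' {u}).Finite := s.left.finite_preimage_singleton u
    obtain ⟨A, hA, hAm⟩ := horb (hfin.image t.left).toFinset
    exact ⟨u, hu, A, hA, fun p hp => hAm _ ((hfin.image t.left).mem_toFinset.2 ⟨p, hp, rfl⟩)⟩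
  obtain ⟨M, q₀, hq, hpb, hqs, -⟩ := FinGrpdLib.exists_quotient 𝒢 (FinGrpdLib.orbitsAffine_of_closed 𝒢 hcond)
  let q : U ⟶ M := q₀
  have hpbo : IsPullback t s q q := IsPullback.of_map (Over.forget S) (Over.OverMorphism.ext hpb.w) hpb
  haveI : Epi m := epi_of_fppf (IsAlgSpace.yon_obj U) hY m
    (locP_of_repWith (repWith_mono (fun _ _ g hg => hg.2.1) hm))
    (locP_of_repWith (repWith_mono (fun _ _ g hg => hg.2.2) hm)) (surjective_map_of_repWith hs)
  haveI : Epi ((yon S).map q) := by
    refine epi_of_fppf (IsAlgSpace.yon_obj U) (IsAlgSpace.yon_obj M) _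
      (locP_of_repWith (repWith_yon_map (P := @Flat) hq.2.1))
      (locP_of_repWith (repWith_yon_map (P := @LocallyOfFinitePresentation) hq.2.2))
      (surjective_map_of_repWith (repWith_yon_map (P := @Surjective) hqs))
  obtain ⟨φ, hφ⟩ := exists_desc_of_epi m sq ((yon S).map q) (by rw [← Functor.map_comp, ← Functor.map_comp, hpbo.w])
  obtain ⟨ψ, hψ⟩ := exists_desc_of_epi ((yon S).map q) (isPullback_yon_map hpbo) m sq.w
  exact isRepresentable_of_iso_yon (P := M) ⟨ψ, φ, by rw [← cancel_epi ((yon S).map q), reassoc_of% hψ, hφ, Category.comp_id],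
    by rw [← cancel_epi m, reassoc_of% hφ, hψ, Category.comp_id]⟩

/-- A point is in the schematic locus iff its preimage is in an affine open of the cover. -/
theorem schematic_iff {X Y : Space S} (f : X ⟶ Y) (hf : IsFinLocFreeMor f.hom) (hs : RepWith @Surjective f.hom)
    (y : Points Y.obj) :
    (∃ (Y' : Space S) (j : Y' ⟶ Y), RepWith @IsOpenImmersion j.hom ∧ Y'.obj.obj.IsRepresentable ∧
        y ∈ Set.range (Points.map j.hom)) ↔
      ∃ (U : Over S) (a : (yon S).obj U ⟶ X.obj), IsAffine U.left ∧ RepWith @IsOpenImmersion a ∧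
        Points.map f.hom ⁻¹' {y} ⊆ Set.range (Points.ofPt a) := by
  constructor
  · rintro ⟨Y', j, hj, ⟨M, ⟨r⟩⟩, y', rfl⟩
    let e := isoOfRepresentableBy r
    obtain ⟨p, rfl⟩ := (Points.schemeHomeo M).surjective (Points.map e.inv y') |>.imp fun p h =>
      (show Points.map e.hom (Points.schemeHomeo M p) = y' by rw [h, ← Points.map_comp, e.inv_hom_id, Points.map_id])
    obtain ⟨A, hA, hpA, -⟩ := exists_isAffineOpen_mem_and_subset (x := p) (U := (⊤ : M.left.Opens)) trivial
    let o : Over.mk (A.ι ≫ M.hom) ⟶ M := Over.homMk A.ι rfl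
    let jA := (yon S).map o ≫ e.hom ≫ j.hom
    have hjA : RepWith @IsOpenImmersion jA :=
      repWith_comp (repWith_yon_map (show IsOpenImmersion o.left from inferInstanceAs (IsOpenImmersion A.ι)))
        (repWith_comp (repWith_of_isIso _) hj)
    have sq := hf.1.isPullback jA
    obtain ⟨-, hfin, -, -⟩ : True ∧ Mor2.IsFinLocFree (hf.1.snd jA).left := ⟨trivial, hf.2 _ _ _ sq⟩
    haveI : IsAffine (Over.mk (A.ι ≫ M.hom)).left := hA
    haveI := hfin
    haveI : IsAffineHom (hf.1.snd jA).left := inferInstance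
    refine ⟨hf.1.pullback jA, hf.1.fst jA, isAffine_of_isAffineHom (hf.1.snd jA).left,
      repWith_of_isPullback sq.flip hjA, fun x hx => ?_⟩
    obtain ⟨z, hz, -⟩ := points_exists_of_isPullback sq x (Points.ofScheme (Over.mk (A.ι ≫ M.hom)) ⟨p, hpA⟩) (by
      rw [Set.mem_preimage, Set.mem_singleton_iff] at hx
      rw [hx, ← Points.ofPt_eq_map_ofScheme, ofPt_yon_map_comp, ← Points.map_comp]
      exact congrFun (ofPt_comp_eq_map (e.hom ≫ j.hom)) p |>.symm)
    obtain ⟨w, rfl⟩ := (Points.schemeHomeo _).surjective z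
    exact ⟨w, (congrFun (ofPt_comp_eq_map (hf.1.fst jA)) w).trans hz⟩
  · rintro ⟨U, a, hU, ha, hfib⟩
    have hclosed : IsClosedMap (Points.map f.hom) :=
      isClosedMap_map_of_repWith (fun g hg => haveI : IsFinite g := hg.1; g.isClosedMap) hf
    have hA : IsOpen (Set.range (Points.ofPt a)) := (isOpenMap_ofPt_of_etale
      (repWith_mono (fun _ _ g (hg : IsOpenImmersion g) => (inferInstance : Etale g)) ha)).isOpen_range
    let G : Set (Points Y.obj) := (Points.map f.hom '' (Set.range (Points.ofPt a))ᶜ)ᶜ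
    have hG : IsOpen G := (hclosed _ hA.isClosed_compl).isOpen_compl
    have hGa : Points.map f.hom ⁻¹' G ⊆ Set.range (Points.ofPt a) := fun x hx => by
      by_contra h
      exact hx ⟨x, h, rfl⟩
    have hyG : y ∈ G := by
      rintro ⟨x, hx, hxy⟩
      exact hx (hfib hxy)
    let O : U.left.Opens := ⟨Points.ofPt (a ≫ f.hom) ⁻¹' G, hG.preimage (Points.continuous_ofPt _)⟩
    let o : Over.mk (O.ι ≫ U.hom) ⟶ U := Over.homMk O.ι rfl
    let b := (yon S).map o ≫ a
    have hb : RepWith @IsOpenImmersion b :=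
      repWith_comp (repWith_yon_map (show IsOpenImmersion o.left from inferInstanceAs (IsOpenImmersion O.ι))) ha
    haveI : Mono b := mono_of_repWith (P := @IsOpenImmersion)
      (fun g hg => haveI : IsOpenImmersion g := hg; inferInstance) hb
    have hrange : Points.map f.hom ⁻¹' G ⊆ Set.range (Points.ofPt b) := fun x hx => by
      obtain ⟨v, rfl⟩ := hGa hx
      refine ⟨⟨v, ?_⟩, ofPt_yon_map_comp o a _⟩
      show Points.ofPt (a ≫ f.hom) v ∈ G
      rw [← Points.map_ofPt]
      exact hx
    obtain ⟨m, hm⟩ := exists_fac_subι (b ≫ f.hom) (W := G) (by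
      rintro _ ⟨z, rfl⟩
      obtain ⟨v, rfl⟩ := (Points.schemeHomeo _).surjective z
      have h := congrFun (ofPt_comp_eq_map (b ≫ f.hom)) v
      simp only [Function.comp_apply] at h
      rw [← h, Category.assoc, ofPt_yon_map_comp]
      exact v.2)
    have sqP := IsPullback.of_hasPullback f.hom (subι Y.obj G)
    let l : (yon S).obj (Over.mk (O.ι ≫ U.hom)) ⟶ pullback f.hom (subι Y.obj G) := pullback.lift b m hm.symm
    haveI : Mono l := by
      haveI : Mono (l ≫ pullback.fst f.hom (subι Y.obj G)) := by simp only [l, pullback.lift_fst]; infer_instance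
      exact mono_of_mono l (pullback.fst f.hom (subι Y.obj G))
    haveI : Epi l := ⟨fun {Z} u v huv => hom_ext_yon fun T z => by
      obtain ⟨k, hk⟩ := exists_lift_openImm hb (z ≫ pullback.fst f.hom (subι Y.obj G)) (fun t => by
        rw [← Points.map_ofPt]
        obtain ⟨v', hv'⟩ := hrange (show Points.map f.hom (Points.map (pullback.fst f.hom (subι Y.obj G))
            (Points.ofPt z t)) ∈ G from by
          rw [← Points.map_comp, pullback.condition, Points.map_comp, Points.map_ofPt]
          exact (range_map_subι Y.obj G).le ⟨_, rfl⟩)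
        exact ⟨Points.schemeHomeo _ v', (congrFun (ofPt_comp_eq_map b) v').symm.trans hv'⟩)
      have hz : k ≫ l = z := by
        apply pullback.hom_ext
        · simp only [l, Category.assoc, pullback.lift_fst, hk]
        · rw [← cancel_mono (subι Y.obj G)]
          simp only [l, Category.assoc, pullback.lift_snd, hm, ← pullback.condition, reassoc_of% hk]
      rw [← hz, Category.assoc, Category.assoc, huv]⟩
    haveI : IsIso l := isIso_of_mono_of_epi l
    have hmsq : IsPullback b m f.hom (subι Y.obj G) :=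
      sqP.of_iso (asIso l).symm (Iso.refl _) (Iso.refl _) (Iso.refl _) (by simp [l]) (by simp [l]) (by simp) (by simp)
    refine ⟨⟨subSp Y.obj G, isAlgSpace_subSp Y.2 hG⟩, ObjectProperty.homMk (subι Y.obj G), repWith_subι _ _ hG,
      isRepresentable_of_finLocFree_cover (isAlgSpace_subSp Y.2 hG) m (repWith_of_isPullback hmsq hf)
        (repWith_of_isPullback hmsq hs) (fun T => ?_), (range_map_subι Y.obj G).ge hyG⟩
    classical
    haveI := hU
    obtain ⟨A, hA', hle, hT⟩ := Groth.Agent.S0411.exists_affine_in_open O (T.image O.ι) (fun t ht => by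
      obtain ⟨w, -, rfl⟩ := Finset.mem_image.1 ht
      exact w.2)
    exact ⟨O.ι ⁻¹ᵁ A, hA'.preimage_of_isOpenImmersion O.ι (by simpa using hle),
      fun t ht => hT _ (Finset.mem_image_of_mem _ ht)⟩

/-- Quasi-compactness of an etale surjective map from that of its kernel pair. -/
theorem quasiCompact_of_kernelPair {P T : Scheme.{u}} (π : P ⟶ T) [Etale π] [Surjective π]
    [QuasiCompact (pullback.snd π π)] : QuasiCompact π := by
  rw [quasiCompact_iff_forall_isAffineOpen]
  intro K hK
  choose A hA hpA hAK using fun p : ↥(π ⁻¹ᵁ K) =>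
    exists_isAffineOpen_mem_and_subset (x := p.1) (U := π ⁻¹ᵁ K) p.2
  obtain ⟨F, hF⟩ := hK.isCompact.elim_finite_subcover (fun p => π '' (A p : Set P))
    (fun p => π.isOpenMap _ (A p).2) (fun t ht => by
      obtain ⟨p, rfl⟩ := π.surjective t
      exact Set.mem_iUnion.2 ⟨⟨p, ht⟩, p, hpA _, rfl⟩)
  have hc : IsCompact (⋃ p ∈ F, pullback.fst π π '' (pullback.snd π π ⁻¹' (A p : Set P))) :=
    F.finite_toSet.isCompact_biUnion fun p _ =>
      ((pullback.snd π π).isCompact_preimage (hA p).isCompact).image (pullback.fst π π).continuous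
  convert hc using 1
  ext x
  simp only [Set.mem_preimage, Set.mem_iUnion]
  constructor
  · intro hx
    obtain ⟨p, hp, w, hw, hwx⟩ := Set.mem_iUnion₂.1 (hF hx)
    obtain ⟨z, hz1, hz2⟩ := Scheme.Pullback.exists_preimage_pullback (f := π) (g := π) x w hwx.symm
    exact ⟨p, hp, z, show pullback.snd π π z ∈ (A p : Set P) from hz2 ▸ hw, hz1⟩
  · rintro ⟨p, -, z, hz, rfl⟩
    show π (pullback.fst π π z) ∈ K
    rw [← Scheme.Hom.comp_apply, pullback.condition, Scheme.Hom.comp_apply]
    exact hAK p hz

/-- The image of a chart whose kernel pair is quasi-compact. -/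
theorem exists_image_qc {X : Space S} {U : Over S} (φ : (yon S).obj U ⟶ X.obj) (hφ : RepWith @Etale φ)
    (hR : ∀ (R : Over S) (s t : R ⟶ U), IsPullback ((yon S).map t) ((yon S).map s) φ φ → QuasiCompact s.left) :
    ∃ (Xi : Space S) (j : Xi ⟶ X) (a : (yon S).obj U ⟶ Xi.obj), RepWith @IsOpenImmersion j.hom ∧
      Set.range (Points.map j.hom) = Set.range (Points.ofPt φ) ∧
      RepWith @Etale a ∧ RepWith @Surjective a ∧ RepWith @QuasiCompact a := by
  have hI : IsOpen (Set.range (Points.ofPt φ)) := (isOpenMap_ofPt_of_etale hφ).isOpen_range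
  let I := Set.range (Points.ofPt φ)
  have hr : Set.range (Points.map φ) = I := by
    simp only [I]
    rw [ofPt_comp_eq_map, Set.range_comp, (Points.schemeHomeo U).surjective.range_eq, Set.image_univ]
  obtain ⟨a, ha⟩ := exists_fac_subι φ hr.le
  have hsq : IsPullback (𝟙 _) a φ (subι X.obj I) :=
    IsPullback.of_isLimit' ⟨by rw [Category.id_comp, ha]⟩ (PullbackCone.IsLimit.mk _ (fun s => s.fst)
      (fun s => Category.comp_id _)
      (fun s => (cancel_mono (subι X.obj I)).1 (by rw [Category.assoc, ha, s.condition]))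
      (fun s m h1 _ => by rw [← h1]; exact (Category.comp_id m).symm))
  have hae : RepWith @Etale a := repWith_of_isPullback hsq hφ
  have has : RepWith @Surjective a := (repWith_surjective_iff hae.1).2 fun y => by
    obtain ⟨v, hv⟩ := hr.ge ((range_map_subι X.obj I).le ⟨y, rfl⟩)
    exact ⟨v, injective_points_map_of_mono (subι X.obj I) (by rw [← Points.map_comp, ha, hv])⟩
  refine ⟨⟨subSp X.obj I, isAlgSpace_subSp X.2 hI⟩, ObjectProperty.homMk (subι X.obj I), a, repWith_subι _ _ hI,
    range_map_subι X.obj I, hae, has, hae.1, fun T P g fst snd sq => ?_⟩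
  obtain ⟨z, rfl⟩ := (yon S).map_surjective fst
  haveI : Etale snd.left := hae.2 _ _ _ sq
  haveI : Surjective snd.left := has.2 _ _ _ sq
  have sq' := isPullback_comp_mono sq (subι X.obj I)
  rw [ha] at sq'
  obtain ⟨R, t, s, hRs⟩ := exists_isPullback_yon hφ.1 φ
  haveI : QuasiCompact s.left := hR R s t hRs
  have sqQ := IsPullback.of_hasPullback s z
  have h1 : IsPullback ((yon S).map (pullback.fst s z ≫ t)) ((yon S).map (pullback.snd s z)) φ ((yon S).map z ≫ φ) := by
    rw [Functor.map_comp]
    exact (isPullback_yon_map sqQ).paste_horiz hRs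
  have h2 : IsPullback ((yon S).map (pullback.fst snd snd ≫ z)) ((yon S).map (pullback.snd snd snd)) φ
      ((yon S).map z ≫ φ) := by
    rw [Functor.map_comp, sq'.w]
    exact (isPullback_yon_map (IsPullback.of_hasPullback snd snd)).paste_horiz sq'
  obtain ⟨η, hη⟩ := (yon S).map_surjective (h2.isoIsPullback _ _ h1).hom
  have hη2 : η ≫ pullback.snd s z = pullback.snd snd snd := (yon S).map_injective (by
    rw [Functor.map_comp, hη, IsPullback.isoIsPullback_hom_snd])
  haveI : IsIso η := by
    haveI : IsIso ((yon S).map η) := by rw [hη]; infer_instance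
    exact isIso_of_fully_faithful (yon S) η
  haveI : IsIso η.left := inferInstanceAs (IsIso ((Over.forget S).map η))
  haveI : QuasiCompact (pullback.snd s z).left :=
    MorphismProperty.of_isPullback (P := @QuasiCompact) (isPullback_left sqQ) ‹_›
  haveI : QuasiCompact (pullback.snd snd snd).left := by
    rw [← hη2, Over.comp_left]; infer_instance
  have sqL := isPullback_left (IsPullback.of_hasPullback snd snd)
  haveI : QuasiCompact (pullback.snd snd.left snd.left) := by
    rw [← sqL.isoPullback_inv_snd]; infer_instance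
  exact quasiCompact_of_kernelPair snd.left

end Groth.Agent.StratX
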