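import Groth.Agent.StratX.Dense
import Groth.Agent.EtaleSplit.GeomPoint
import Groth.Agent.ASp.DecentPt
import Groth.Agent.S10360
/-!
Finite fibres outside the strata, and decency from boundedness at generic points.
-/

set_option autoImplicit false
set_option backward.isDefEq.respectTransparency false
set_option backward.isDefEq.respectTransparency.types false

universe u

open CategoryTheory CategoryTheory.Limits AlgebraicGeometry Opposite

namespace Groth.Agent.StratX

open _root_.AlgSp Groth.Agent.ASp

variable {S : Scheme.{u}} {V : Over S} {X : Sp S} {a : (yon S).obj V ⟶ X}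

/-- Outside the stratum of `N + 1` lifts the base change of a chart has at most `N` points. -/
theorem finite_of_not_mem (ha : RepWith @Etale a) {N : ℕ} (U : Univ a N) (q : FieldPt X)
    (hq : Points.mk q ∉ img U) {P : Over S} {z : P ⟶ V} {π : P ⟶ q.pt}
    (sq : IsPullback ((yon S).map z) ((yon S).map π) a q.toHom) : Finite ↥P.left := by
  haveI : Etale π.left := ha.2 _ _ _ sq
  haveI : LocallyQuasiFinite π.left := Groth.Agent.Unibranch.locallyQuasiFinite_of_etale _
  rw [← not_infinite_iff_finite]
  intro hinf
  let t := Infinite.natEmbedding ↥P.left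
  let Ω := AlgebraicClosure q.K
  let ρ : Spec (.of Ω) ⟶ Spec (.of q.K) := Spec.map (CommRingCat.ofHom (algebraMap q.K Ω))
  haveI : Subsingleton ↥q.pt.left := inferInstanceAs (Subsingleton ↥(Spec (CommRingCat.of q.K)))
  choose p hp using fun i : Fin (N + 1) => EtaleSplit.exists_gpt π.left ρ (t i.1) (Subsingleton.elim _ _)
  let b : Over.mk (ρ ≫ q.pt.hom) ⟶ q.pt := Over.homMk ρ rfl
  let l : ∀ i, Over.mk (ρ ≫ q.pt.hom) ⟶ P := fun i => Over.homMk (p i).1 (by
    show (p i).1 ≫ P.hom = ρ ≫ q.pt.hom
    rw [← Over.w π, ← Category.assoc]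
    exact congrArg (· ≫ q.pt.hom) (p i).2)
  have hlπ : ∀ i, l i ≫ π = b := fun i => Over.OverMorphism.ext (p i).2
  let s₀ : ↥(Spec (CommRingCat.of Ω)) := IsLocalRing.closedPoint Ω
  haveI : Subsingleton ↥(Over.mk (ρ ≫ q.pt.hom)).left := inferInstanceAs (Subsingleton ↥(Spec (CommRingCat.of Ω)))
  have hne : ∀ i j, l i ≫ z = l j ≫ z → i = j := fun i j e => by
    have e1 : l i = l j := (yon S).map_injective (sq.hom_ext
      (by rw [← Functor.map_comp, ← Functor.map_comp, e])
      (by rw [← Functor.map_comp, ← Functor.map_comp, hlπ, hlπ]))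
    refine Fin.ext (t.injective ?_)
    rw [← hp i, ← hp j]
    exact congrArg EtaleSplit.pt (congrArg (·.left) e1)
  have hover : ∀ i, (yon S).map (l i ≫ z) ≫ a = (yon S).map b ≫ q.toHom := fun i => by
    rw [Functor.map_comp, Category.assoc, sq.w, ← Category.assoc, ← Functor.map_comp, hlπ]
  have hT : IsTup a fun i => l i ≫ z := by
    refine ⟨fun i j => (hover i).trans (hover j).symm, fun i j hij s hag => hij (hne i j ?_)⟩
    haveI : Surjective ((Over.mk (ρ ≫ q.pt.hom)).left.fromSpecResidueField s) :=
      ⟨fun s' => ⟨IsLocalRing.closedPoint _, Subsingleton.elim _ _⟩⟩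
    haveI : Flat ((Over.mk (ρ ≫ q.pt.hom)).left.fromSpecResidueField s) := by
      show Flat ((Spec (CommRingCat.of Ω)).fromSpecResidueField s)
      infer_instance
    haveI := Flat.epi_of_flat_of_surjective ((Over.mk (ρ ≫ q.pt.hom)).left.fromSpecResidueField s)
    exact Over.OverMorphism.ext ((cancel_epi _).1 hag)
  obtain ⟨h, hh⟩ := U.exists_lift hT
  refine hq ⟨h.left s₀, ?_⟩
  rw [← ofPt_yon_map_comp, ← Functor.map_comp_assoc, hh, hover, ofPt_yon_map_comp]
  exact Points.ofPt_toHom q _

/-- Outside the stratum of `N + 1` lifts the fibres of a chart and of its kernel pair are finite. -/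
theorem finite_fibre_of_not_mem (ha : RepWith @Etale a) {N : ℕ} (U : Univ a N) (x : Points X) (hx : x ∉ img U)
    (R : Over S) (s t : R ⟶ V) (hR : IsPullback ((yon S).map t) ((yon S).map s) a a) :
    (Points.ofPt a ⁻¹' {x}).Finite ∧ (Points.ofPt ((yon S).map t ≫ a) ⁻¹' {x}).Finite := by
  obtain ⟨q, rfl⟩ := Points.mk_surjective x
  obtain ⟨P, z, π, sq⟩ := exists_isPullback_yon ha.1 q.toHom
  haveI : Finite ↥P.left := finite_of_not_mem ha U q hx sq
  have key : ∀ {W Q : Over S} {f : (yon S).obj W ⟶ X} {z' : Q ⟶ W} {π' : Q ⟶ q.pt},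
      IsPullback ((yon S).map z') ((yon S).map π') f q.toHom → Finite ↥Q.left →
      (Points.ofPt f ⁻¹' {Points.mk q}).Finite := by
    intro W Q f z' π' sq' hQ
    refine (Set.finite_range z'.left).subset ?_
    intro w hw
    have e := preimage_ofPt_image sq'.flip Set.univ
    rw [Set.preimage_univ, Set.image_univ, Set.image_univ] at e
    rw [← e]
    refine ⟨Points.ofScheme q.pt (IsLocalRing.closedPoint _), ?_⟩
    rw [← Points.ofPt_eq_map_ofScheme]
    exact (Points.ofPt_toHom q _).trans hw.symm
  refine ⟨key sq inferInstance, ?_⟩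
  haveI : Etale π.left := ha.2 _ _ _ sq
  haveI : CompactSpace ↥P.left := inferInstance
  haveI : LocallyQuasiFinite π.left := Groth.Agent.Unibranch.locallyQuasiFinite_of_etale _
  haveI : Subsingleton ↥q.pt.left := inferInstanceAs (Subsingleton ↥(Spec (CommRingCat.of q.K)))
  haveI : IsAffine q.pt.left := inferInstanceAs (IsAffine (Spec (CommRingCat.of q.K)))
  haveI : QuasiCompact π.left := quasiCompact_of_compactSpace _
  have sqQ := IsPullback.of_hasPullback t z
  have hQ : IsPullback ((yon S).map (pullback.fst t z)) ((yon S).map (pullback.snd t z ≫ π))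
      ((yon S).map t ≫ a) q.toHom := by
    rw [Functor.map_comp]
    exact (isPullback_yon_map sqQ).paste_vert sq
  refine key hQ ?_
  have sqPP := IsPullback.of_hasPullback π π
  have h1 : IsPullback ((yon S).map (pullback.fst t z ≫ s)) ((yon S).map (pullback.snd t z)) a
      ((yon S).map z ≫ a) := by
    rw [Functor.map_comp]
    exact (isPullback_yon_map sqQ).paste_horiz hR.flip
  have h2 : IsPullback ((yon S).map (pullback.fst π π ≫ z)) ((yon S).map (pullback.snd π π)) a
      ((yon S).map z ≫ a) := by
    rw [Functor.map_comp, sq.w]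
    exact (isPullback_yon_map sqPP).paste_horiz sq
  obtain ⟨η, hη⟩ := (yon S).map_surjective (h1.isoIsPullback _ _ h2).hom
  haveI : IsIso η := by
    haveI : IsIso ((yon S).map η) := by rw [hη]; infer_instance
    exact isIso_of_fully_faithful (yon S) η
  haveI : IsIso η.left := inferInstanceAs (IsIso ((Over.forget S).map η))
  have hsq := isPullback_left sqPP
  haveI : QuasiCompact (pullback.snd π π).left := MorphismProperty.of_isPullback (P := @QuasiCompact) hsq ‹_›
  haveI : LocallyQuasiFinite (pullback.snd π π).left :=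
    MorphismProperty.of_isPullback (P := @LocallyQuasiFinite) hsq ‹_›
  haveI : Finite ↥(pullback π π).left := by
    rw [← Set.finite_univ_iff]
    simpa using (pullback.snd π π).left.finite_preimage (Set.finite_univ (α := ↥P.left))
  exact Finite.of_injective η.left η.left.isOpenEmbedding.injective

end Groth.Agent.StratX
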