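import Groth.Agent.StratX.Quot
import Groth.Agent.ASp.RedSub
import Groth.Agent.ASp.DecentPt
import Groth.Agent.EtaleSplit.Bound
/-!
The strata given by the number of geometric points of a chart over a point of the space.
-/

set_option autoImplicit false
set_option backward.isDefEq.respectTransparency false
set_option backward.isDefEq.respectTransparency.types false

universe u

open CategoryTheory CategoryTheory.Limits AlgebraicGeometry Opposite

namespace Groth.Agent.StratX

open _root_.AlgSp Groth.Agent.ASp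

variable {S : Scheme.{u}} {V : Over S} {X : Sp S} {a : (yon S).obj V ⟶ X}

/-- The points of the space under the scheme of tuples. -/
def img {n : ℕ} (U : Univ a n) : Set (Points X) := Set.range (Points.ofPt ((yon S).map (U.x 0) ≫ a))

theorem isOpen_img (ha : RepWith @Etale a) {n : ℕ} (U : Univ a n) : IsOpen (img U) :=
  (isOpenMap_ofPt_of_etale (repWith_comp (repWith_yon_map U.etale_zero) ha)).isOpen_range

theorem range_zero (U : Univ a 0) : img U = Set.range (Points.ofPt a) := by
  refine subset_antisymm ?_ ?_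
  · rintro _ ⟨w, rfl⟩
    exact ⟨_, (ofPt_yon_map_comp _ _ w).symm⟩
  · rintro _ ⟨v, rfl⟩
    obtain ⟨h, hh⟩ := U.exists_lift (T := V) (y := fun _ => 𝟙 V)
      ⟨fun _ _ => rfl, fun i j hij => (hij (Subsingleton.elim (α := Fin 1) i j)).elim⟩
    refine ⟨h.left v, ?_⟩
    rw [ofPt_yon_map_comp]
    show Points.ofPt a ((h ≫ U.x 0).left v) = _
    rw [hh]
    rfl

theorem img_succ_subset {n : ℕ} (U : Univ a n) (U' : Univ a (n + 1)) : img U' ⊆ img U := by
  rintro _ ⟨w, rfl⟩
  obtain ⟨h, hh⟩ := U.exists_lift (y := fun i : Fin (n + 1) => U'.x i.castSucc)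
    ⟨fun i j => U'.isTup.over _ _, fun i j hij => U'.isTup.disj _ _ fun e => hij (Fin.castSucc_injective _ e)⟩
  refine ⟨h.left w, ?_⟩
  rw [← ofPt_yon_map_comp, ← Functor.map_comp_assoc, hh]
  rfl

theorem range_f {n : ℕ} {U : Univ a n} (Q : VQuot a U) : Set.range (Points.ofPt Q.f) = img U := by
  have hfac : ∀ w, Points.ofPt Q.f (Q.q.left w) = Points.ofPt ((yon S).map (U.x 0) ≫ a) w := fun w => by
    rw [← ofPt_yon_map_comp, Q.fac]
  refine subset_antisymm ?_ ?_
  · rintro _ ⟨v, rfl⟩
    haveI := Q.surjective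
    obtain ⟨w, rfl⟩ := Q.q.left.surjective v
    exact ⟨w, (hfac w).symm⟩
  · rintro _ ⟨w, rfl⟩
    exact ⟨_, hfac w⟩

/-- Outside the next stratum the unordered tuple is unique. -/
theorem eq_of_not_mem (ha : RepWith @Etale a) (hV : IsSeparated V.hom) {n : ℕ} {U : Univ a n} (U' : Univ a (n + 1))
    (Q : VQuot a U) {T : Over S} {y₁ y₂ : T ⟶ Q.Vp} (e : (yon S).map y₁ ≫ Q.f = (yon S).map y₂ ≫ Q.f)
    (hT : ∀ t, Points.ofPt ((yon S).map y₁ ≫ Q.f) t ∉ img U') : y₁ = y₂ := by
  haveI := Q.etale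
  haveI := Q.surjective
  haveI := Q.finite
  have sq₁ := IsPullback.of_hasPullback Q.q y₁
  have sq₂ := IsPullback.of_hasPullback Q.q (pullback.snd Q.q y₁ ≫ y₂)
  let h := pullback.snd Q.q (pullback.snd Q.q y₁ ≫ y₂) ≫ pullback.fst Q.q y₁
  let h' := pullback.fst Q.q (pullback.snd Q.q y₁ ≫ y₂)
  let c := pullback.snd Q.q (pullback.snd Q.q y₁ ≫ y₂) ≫ pullback.snd Q.q y₁
  have hq : h ≫ Q.q = c ≫ y₁ := by simp only [h, c, Category.assoc, pullback.condition]
  have hq' : h' ≫ Q.q = c ≫ y₂ := by simp only [h', c, Category.assoc, pullback.condition]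
  haveI : Surjective (pullback.snd Q.q y₁).left :=
    MorphismProperty.of_isPullback (P := @Surjective) (isPullback_left sq₁) ‹_›
  haveI : Surjective (pullback.snd Q.q (pullback.snd Q.q y₁ ≫ y₂)).left :=
    MorphismProperty.of_isPullback (P := @Surjective) (isPullback_left sq₂) ‹_›
  haveI : Etale (pullback.snd Q.q y₁).left :=
    MorphismProperty.of_isPullback (P := @Etale) (isPullback_left sq₁) ‹_›
  haveI : Etale (pullback.snd Q.q (pullback.snd Q.q y₁ ≫ y₂)).left :=
    MorphismProperty.of_isPullback (P := @Etale) (isPullback_left sq₂) ‹_›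
  haveI : IsFinite (pullback.snd Q.q y₁).left :=
    MorphismProperty.of_isPullback (P := @IsFinite) (isPullback_left sq₁) ‹_›
  haveI : IsFinite (pullback.snd Q.q (pullback.snd Q.q y₁ ≫ y₂)).left :=
    MorphismProperty.of_isPullback (P := @IsFinite) (isPullback_left sq₂) ‹_›
  haveI : Epi c.left := by
    rw [Over.comp_left]
    haveI : Surjective ((pullback.snd Q.q (pullback.snd Q.q y₁ ≫ y₂)).left ≫ (pullback.snd Q.q y₁).left) := inferInstance
    exact Flat.epi_of_flat_of_surjective _
  suffices hh : h ≫ Q.q = h' ≫ Q.q by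
    refine Over.OverMorphism.ext ?_
    rw [← cancel_epi c.left, ← Over.comp_left, ← Over.comp_left, ← hq, ← hq', hh]
  have hover : ∀ i j, (yon S).map (h' ≫ U.x i) ≫ a = (yon S).map (h ≫ U.x j) ≫ a := fun i j => by
    have h1 : (yon S).map (h' ≫ U.x i) ≫ a = (yon S).map c ≫ (yon S).map y₂ ≫ Q.f := by
      rw [Functor.map_comp, Category.assoc, U.isTup.over i 0, ← Q.fac, ← Functor.map_comp_assoc, hq',
        Functor.map_comp_assoc]
    have h2 : (yon S).map (h ≫ U.x j) ≫ a = (yon S).map c ≫ (yon S).map y₁ ≫ Q.f := by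
      rw [Functor.map_comp, Category.assoc, U.isTup.over j 0, ← Q.fac, ← Functor.map_comp_assoc, hq,
        Functor.map_comp_assoc]
    rw [h1, h2, e]
  choose E hEc hE hEeq using fun i j => exists_clopen a hV ha (h' ≫ U.x i) (h ≫ U.x j) (hover i j)
  refine over_hom_ext_local _ _ fun t => ?_
  have hex : ∀ i, ∃ j, t ∈ E i j := by
    by_contra! hne
    obtain ⟨i, hi⟩ := hne
    let T' := pullback Q.q (pullback.snd Q.q y₁ ≫ y₂)
    let k : Over.mk (T'.left.fromSpecResidueField t ≫ T'.hom) ⟶ T' :=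
      Over.homMk (T'.left.fromSpecResidueField t) rfl
    have hkt : ∀ z, k.left z = t := fun z => Scheme.fromSpecResidueField_apply t z
    have htup : IsTup a (Fin.snoc (fun j => k ≫ h ≫ U.x j) (k ≫ h' ≫ U.x i) : Fin (n + 2) → _) := by
      refine ⟨fun p q => ?_, fun p q hpq z => ?_⟩
      · have key : ∀ p, (yon S).map ((Fin.snoc (fun j => k ≫ h ≫ U.x j) (k ≫ h' ≫ U.x i) : Fin (n + 2) → _) p) ≫ a =
            (yon S).map k ≫ (yon S).map (h' ≫ U.x i) ≫ a := fun p => by
          refine Fin.lastCases ?_ (fun j => ?_) p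
          · rw [Fin.snoc_last, Functor.map_comp, Category.assoc]
          · rw [Fin.snoc_castSucc, hover i j, Functor.map_comp, Category.assoc]
        rw [key p, key q]
      · revert hpq
        refine Fin.lastCases ?_ (fun p => ?_) p <;> refine Fin.lastCases ?_ (fun q => ?_) q <;> intro hpq hA
        · exact hpq rfl
        · rw [Fin.snoc_last, Fin.snoc_castSucc, agree_comp k, hkt, ← hE] at hA
          exact hi q hA
        · rw [Fin.snoc_last, Fin.snoc_castSucc] at hA
          have hA' := (agree_comp k _ _ z).1 hA.symm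
          rw [hkt, ← hE] at hA'
          exact hi p hA'
        · rw [Fin.snoc_castSucc, Fin.snoc_castSucc, agree_comp k, agree_comp h] at hA
          exact U.isTup.disj p q (fun e => hpq (congrArg Fin.castSucc e)) _ hA
    obtain ⟨l, hl⟩ := U'.exists_lift htup
    refine hT (c.left t) ?_
    refine ⟨l.left (IsLocalRing.closedPoint (T'.left.residueField t)), ?_⟩
    rw [← ofPt_yon_map_comp c, ← Functor.map_comp_assoc, ← hq, Functor.map_comp_assoc, Q.fac,
      ← ofPt_yon_map_comp l, ← Functor.map_comp_assoc, ← Functor.map_comp_assoc, ← Fin.castSucc_zero, hl,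
      Fin.snoc_castSucc, Functor.map_comp, Category.assoc, ofPt_yon_map_comp k]
    exact congrArg _ (hkt _)
  choose σ hσ using hex
  have hinj : Function.Injective σ := fun i i' hii => by
    by_contra hne
    exact U.isTup.disj i i' hne _ ((agree_comp h' _ _ t).1
      (((hE i (σ i) t).1 (hσ i)).trans (hii ▸ ((hE i' (σ i') t).1 (hσ i')).symm)))
  let τ : Equiv.Perm (Fin (n + 1)) := Equiv.ofBijective σ (Finite.injective_iff_bijective.1 hinj)
  let O : (pullback Q.q (pullback.snd Q.q y₁ ≫ y₂)).left.Opens :=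
    ⟨⋂ i, (E i (σ i)).carrier, isOpen_iInter_of_finite fun i => (E i (σ i)).is_open'⟩
  refine ⟨O, Set.mem_iInter.2 hσ, ?_⟩
  show openInc O ≫ h ≫ Q.q = openInc O ≫ h' ≫ Q.q
  refine (Category.assoc _ _ _).symm.trans ((Q.glue (openInc O ≫ h) (openInc O ≫ h')
    ⟨τ, fun i => Over.OverMorphism.ext ?_⟩).trans (Category.assoc _ _ _))
  have hle : O ≤ E i (σ i) := fun z hz => Set.mem_iInter.1 hz i
  show (O.ι ≫ h'.left) ≫ (U.x i).left = (O.ι ≫ h.left) ≫ (U.x (σ i)).left
  have := congrArg ((pullback Q.q (pullback.snd Q.q y₁ ≫ y₂)).left.homOfLE hle ≫ ·) (hEeq i (σ i))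
  simpa only [Scheme.homOfLE_ι_assoc, Over.comp_left, Category.assoc] using this

/-- Over a stratum the quotient of the tuples is an isomorphism. -/
theorem isIso_fst (ha : RepWith @Etale a) (hV : IsSeparated V.hom) {n : ℕ} {U : Univ a n} (U' : Univ a (n + 1))
    (Q : VQuot a U) {T : Sp S} (g : T ⟶ X) (hg : Set.range (Points.map g) ⊆ img U \ img U') {P : Sp S} {fst : P ⟶ T}
    {snd : P ⟶ (yon S).obj Q.Vp} (sq : IsPullback fst snd g Q.f) : IsIso fst := by
  have he : RepWith @Etale fst := repWith_of_isPullback sq.flip Q.etale_f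
  have hs : RepWith @Surjective fst := (repWith_surjective_iff he.1).2 fun x => by
    obtain ⟨v, hv⟩ := (range_f Q).ge (hg ⟨x, rfl⟩).1
    obtain ⟨p, hp, -⟩ := points_exists_of_isPullback sq x (Points.ofScheme Q.Vp v)
      (by rw [← Points.ofPt_eq_map_ofScheme, hv])
    exact ⟨p, hp⟩
  haveI : Epi fst := epi_of_etale_surjective he hs
  haveI : Mono fst := ⟨fun {Z} u v e => hom_ext_yon fun W z => by
    obtain ⟨y₁, hy₁⟩ := (yon S).map_surjective (z ≫ u ≫ snd)
    obtain ⟨y₂, hy₂⟩ := (yon S).map_surjective (z ≫ v ≫ snd)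
    have h1 : (yon S).map y₁ ≫ Q.f = (z ≫ u ≫ fst) ≫ g := by
      rw [hy₁]; simp only [Category.assoc, sq.w]
    have hy : y₁ = y₂ := eq_of_not_mem ha hV U' Q
      (by rw [h1, hy₂]; simp only [Category.assoc, ← sq.w, reassoc_of% e])
      (fun t => by
        rw [h1, ← Points.map_ofPt]
        exact (hg ⟨_, rfl⟩).2)
    refine sq.hom_ext ?_ ?_
    · simp only [Category.assoc, e]
    · simp only [Category.assoc, ← hy₁, ← hy₂, hy]⟩
  exact isIso_of_mono_of_epi fst

/-- A point with a quasi-compact representative lies in only finitely many of the images. -/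
theorem exists_not_mem (ha : RepWith @Etale a) [CompactSpace ↥V.left] (W : ∀ n, Univ a n) (q : FieldPt X)
    (hq : RepWith @QuasiCompact q.toHom) : ∃ n, Points.mk q ∉ img (W n) := by
  obtain ⟨z, hz⟩ := (yon S).map_surjective (ha.1.fst q.toHom)
  have sq : IsPullback ((yon S).map z) ((yon S).map (ha.1.snd q.toHom)) a q.toHom := hz ▸ ha.1.isPullback _
  let π := ha.1.snd q.toHom
  haveI : Etale π.left := ha.2 _ _ _ sq
  haveI : QuasiCompact z.left := hq.2 _ _ _ sq.flip
  haveI : CompactSpace ↥(ha.1.pullback q.toHom).left := QuasiCompact.compactSpace_of_compactSpace z.left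
  haveI : LocallyQuasiFinite π.left := Groth.Agent.Unibranch.locallyQuasiFinite_of_etale _
  obtain ⟨N, hN⟩ := EtaleSplit.exists_bound_gpts π.left
  refine ⟨N, fun hmem => ?_⟩
  obtain ⟨w, hw⟩ := hmem
  obtain ⟨Ω, _, str, b₁, b₂, hab⟩ := Points.mk_eq_mk_iff.1 hw
  have e : (yon S).map b₁ ≫ (FieldPt.ofPt ((yon S).map ((W N).x 0) ≫ a) w).toHom = (yon S).map b₂ ≫ q.toHom := by
    apply (J S).uliftYonedaEquiv.{u+1}.injective
    rw [← GrothendieckTopology.uliftYonedaEquiv_naturality.{u+1}, ← GrothendieckTopology.uliftYonedaEquiv_naturality.{u+1},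
      FieldPt.uliftYonedaEquiv_toHom, FieldPt.uliftYonedaEquiv_toHom]
    exact hab
  rw [FieldPt.toHom_ofPt] at e
  let ξ := b₁ ≫ (Over.homMk ((W N).W.left.fromSpecResidueField w) rfl :
    Over.mk ((W N).W.left.fromSpecResidueField w ≫ (W N).W.hom) ⟶ (W N).W)
  have hξ : ∀ i, (yon S).map (ξ ≫ (W N).x i) ≫ a = (yon S).map b₂ ≫ q.toHom := fun i => by
    rw [Functor.map_comp, Category.assoc, (W N).isTup.over i 0, ← e]
    simp only [ξ, Functor.map_comp, Category.assoc]
  choose l hl using fun i => (yon S).map_surjective (sq.lift ((yon S).map (ξ ≫ (W N).x i)) ((yon S).map b₂) (hξ i))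
  have hlz : ∀ i, l i ≫ z = ξ ≫ (W N).x i := fun i =>
    (yon S).map_injective (by rw [Functor.map_comp, hl, sq.lift_fst])
  have hlπ : ∀ i, l i ≫ π = b₂ := fun i => (yon S).map_injective (by rw [Functor.map_comp, hl, sq.lift_snd])
  let G : Fin (N + 1) → EtaleSplit.GPts π.left b₂.left := fun i => ⟨(l i).left, congrArg (·.left) (hlπ i)⟩
  have hG : Function.Injective G := fun i j hij => by
    by_contra hne
    have e1 : l i = l j := Over.OverMorphism.ext (congrArg Subtype.val hij)
    have e2 : ξ ≫ (W N).x i = ξ ≫ (W N).x j := by rw [← hlz, ← hlz, e1]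
    have e3 : Agree (ξ ≫ (W N).x i) (ξ ≫ (W N).x j) (IsLocalRing.closedPoint Ω) := by rw [e2]; rfl
    exact (W N).isTup.disj i j hne _ ((agree_comp ξ _ _ _).1 e3)
  obtain ⟨hf, hc⟩ := hN Ω b₂.left
  have := (Nat.card_le_card_of_injective G hG).trans hc
  simp at this

end Groth.Agent.StratX
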