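import Groth.Prelude.Def_AlgSpDec
import Groth.Agent.ASp.Points
import Groth.Agent.ASp.Sub
import Mathlib.AlgebraicGeometry.Morphisms.FlatMono
/-!
The scheme of pairwise distinct tuples of points of an etale separated chart over the same point of the space.
-/

set_option autoImplicit false
set_option backward.isDefEq.respectTransparency false
set_option backward.isDefEq.respectTransparency.types false

universe u

open CategoryTheory CategoryTheory.Limits AlgebraicGeometry Opposite

namespace Groth.Agent.StratX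

open _root_.AlgSp Groth.Agent.ASp

variable {S : Scheme.{u}} {V : Over S}

/-- Two points of `V` agree at a point of the parameter scheme. -/
def Agree {T : Over S} (y y' : T ⟶ V) (t : ↥T.left) : Prop :=
  T.left.fromSpecResidueField t ≫ y.left = T.left.fromSpecResidueField t ≫ y'.left

theorem epi_residueFieldMap {T' T : Scheme.{u}} (k : T' ⟶ T) (t : T') : Epi (Spec.map (k.residueFieldMap t)) := by
  haveI : Flat (Spec.map (k.residueFieldMap t)) := by
    rw [HasRingHomProperty.Spec_iff (P := @Flat)]
    algebraize [(k.residueFieldMap t).hom]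
    exact Module.Flat.of_free
  haveI : Surjective (Spec.map (k.residueFieldMap t)) :=
    ⟨fun z => ⟨IsLocalRing.closedPoint _, Subsingleton.elim _ _⟩⟩
  exact Flat.epi_of_flat_of_surjective _

theorem agree_comp {T' T : Over S} (k : T' ⟶ T) (y y' : T ⟶ V) (t : ↥T'.left) :
    Agree (k ≫ y) (k ≫ y') t ↔ Agree y y' (k.left t) := by
  haveI := epi_residueFieldMap k.left t
  unfold Agree
  rw [Over.comp_left, Over.comp_left, ← Scheme.Hom.SpecMap_residueFieldMap_fromSpecResidueField_assoc,
    ← Scheme.Hom.SpecMap_residueFieldMap_fromSpecResidueField_assoc, cancel_epi]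

variable {X : Sp S} (a : (yon S).obj V ⟶ X)

/-- The projection of a base change of a chart from a separated scheme is separated. -/
theorem isSeparated_snd (hV : IsSeparated V.hom) {T P : Over S} {g : (yon S).obj T ⟶ X} {z : P ⟶ V} {π : P ⟶ T}
    (sq : IsPullback ((yon S).map z) ((yon S).map π) a g) : IsSeparated π.left := by
  let Q : Over S := Over.mk (pullback.snd V.hom T.hom ≫ T.hom)
  let q₁ : Q ⟶ V := Over.homMk (pullback.fst V.hom T.hom) pullback.condition
  let q₂ : Q ⟶ T := Over.homMk (pullback.snd V.hom T.hom) rfl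
  let l : P ⟶ Q := Over.homMk (pullback.lift z.left π.left (by rw [Over.w, Over.w])) (by
    show pullback.lift _ _ _ ≫ pullback.snd _ _ ≫ _ = _
    rw [pullback.lift_snd_assoc, Over.w])
  have h1 : l ≫ q₁ = z := Over.OverMorphism.ext (pullback.lift_fst _ _ _)
  have h2 : l ≫ q₂ = π := Over.OverMorphism.ext (pullback.lift_snd _ _ _)
  haveI : Mono l := ⟨fun c d e => (yon S).map_injective (sq.hom_ext
    (by rw [← Functor.map_comp, ← Functor.map_comp, ← h1, reassoc_of% e])
    (by rw [← Functor.map_comp, ← Functor.map_comp, ← h2, reassoc_of% e]))⟩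
  haveI : Mono l.left := Over.mono_left_of_mono l
  haveI := hV
  rw [← h2, Over.comp_left]
  haveI : IsSeparated q₂.left := inferInstanceAs (IsSeparated (pullback.snd V.hom T.hom))
  infer_instance

theorem isSeparated_hom [V.left.IsSeparated] : IsSeparated V.hom := by
  haveI : IsSeparated (V.hom ≫ terminal.from S) := by
    rw [terminal.comp_from]; infer_instance
  exact IsSeparated.of_comp V.hom (terminal.from S)

/-- Where two points of `V` over the same point of `X` agree is open and closed, and they are equal there. -/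
theorem exists_clopen (hV : IsSeparated V.hom) (ha : RepWith @Etale a) {T : Over S} (y y' : T ⟶ V)
    (h : (yon S).map y ≫ a = (yon S).map y' ≫ a) :
    ∃ E : T.left.Opens, IsClosed (E : Set ↥T.left) ∧ (∀ t, t ∈ E ↔ Agree y y' t) ∧ E.ι ≫ y.left = E.ι ≫ y'.left := by
  obtain ⟨z, hz⟩ := (yon S).map_surjective (ha.1.fst ((yon S).map y ≫ a))
  have sq : IsPullback ((yon S).map z) ((yon S).map (ha.1.snd ((yon S).map y ≫ a))) a ((yon S).map y ≫ a) :=
    hz ▸ ha.1.isPullback _
  let π := ha.1.snd ((yon S).map y ≫ a)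
  haveI : Etale π.left := ha.2 _ _ _ sq
  haveI := isSeparated_snd a hV sq
  obtain ⟨σ, hσ⟩ := (yon S).map_surjective (sq.lift ((yon S).map y) (𝟙 _) (Category.id_comp _).symm)
  obtain ⟨σ', hσ'⟩ := (yon S).map_surjective (sq.lift ((yon S).map y') (𝟙 _) (h.symm.trans (Category.id_comp _).symm))
  have hσz : σ ≫ z = y := (yon S).map_injective (by rw [Functor.map_comp, hσ, sq.lift_fst])
  have hσπ : σ ≫ π = 𝟙 T := (yon S).map_injective (by rw [Functor.map_comp, hσ, sq.lift_snd, CategoryTheory.Functor.map_id])
  have hσ'z : σ' ≫ z = y' := (yon S).map_injective (by rw [Functor.map_comp, hσ', sq.lift_fst])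
  have hσ'π : σ' ≫ π = 𝟙 T := (yon S).map_injective (by rw [Functor.map_comp, hσ', sq.lift_snd, CategoryTheory.Functor.map_id])
  have hl : σ.left ≫ π.left = 𝟙 _ := congrArg (·.left) hσπ
  have hl' : σ'.left ≫ π.left = 𝟙 _ := congrArg (·.left) hσ'π
  haveI : IsOpenImmersion σ.left := by
    haveI : IsOpenImmersion (σ.left ≫ π.left) := by rw [hl]; infer_instance
    haveI : Etale (σ.left ≫ π.left) := inferInstance
    haveI : Etale σ.left := Etale.of_comp σ.left π.left
    haveI : Mono σ.left := (SplitMono.mk π.left hl).mono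
    exact IsOpenImmersion.of_flat_of_mono _
  haveI : IsClosedImmersion σ.left := by
    haveI : IsClosedImmersion (σ.left ≫ π.left) := by rw [hl]; infer_instance
    exact IsClosedImmersion.of_comp σ.left π.left
  let E : T.left.Opens := σ'.left ⁻¹ᵁ σ.left.opensRange
  have hrange : Set.range (E.ι ≫ σ'.left) ⊆ Set.range σ.left := by
    rintro _ ⟨p, rfl⟩
    exact p.2
  have hlift : IsOpenImmersion.lift σ.left (E.ι ≫ σ'.left) hrange = E.ι := by
    have := congrArg (· ≫ π.left) (IsOpenImmersion.lift_fac σ.left (E.ι ≫ σ'.left) hrange)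
    simpa only [Category.assoc, hl, hl', Category.comp_id] using this
  have heq : E.ι ≫ σ.left = E.ι ≫ σ'.left := by
    conv_lhs => rw [← hlift]
    exact IsOpenImmersion.lift_fac _ _ _
  have hy : E.ι ≫ y.left = E.ι ≫ y'.left := by
    rw [← hσz, ← hσ'z, Over.comp_left, Over.comp_left, reassoc_of% heq]
  refine ⟨E, σ.left.isClosedEmbedding.isClosed_range.preimage σ'.left.continuous, fun t => ⟨fun ht => ?_, fun ht => ?_⟩, hy⟩
  · unfold Agree
    have hr : Set.range (T.left.fromSpecResidueField t) ⊆ Set.range E.ι := by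
      rw [Scheme.range_fromSpecResidueField, Scheme.Opens.range_ι]
      exact Set.singleton_subset_iff.2 ht
    rw [← IsOpenImmersion.lift_fac E.ι _ hr, Category.assoc, Category.assoc, hy]
  · have e : T.left.fromSpecResidueField t ≫ σ.left = T.left.fromSpecResidueField t ≫ σ'.left := by
      let k : Over.mk (T.left.fromSpecResidueField t ≫ T.hom) ⟶ T := Over.homMk (T.left.fromSpecResidueField t) rfl
      have hk : k ≫ σ = k ≫ σ' := (yon S).map_injective (sq.hom_ext
        (by
          rw [← Functor.map_comp, ← Functor.map_comp, Category.assoc, Category.assoc, hσz, hσ'z]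
          exact congrArg _ (Over.OverMorphism.ext ht))
        (by rw [← Functor.map_comp, ← Functor.map_comp, Category.assoc, Category.assoc, hσπ, hσ'π]))
      exact congrArg (·.left) hk
    have e' := congrArg (fun f => f (IsLocalRing.closedPoint (T.left.residueField t))) e
    simp only [Scheme.Hom.comp_apply, Scheme.fromSpecResidueField_apply] at e'
    exact ⟨t, e'⟩

/-- A tuple of points of `V` over one point of `X`, pairwise different at every point. -/
structure IsTup {T : Over S} {n : ℕ} (y : Fin n → (T ⟶ V)) : Prop where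
  over : ∀ i j, (yon S).map (y i) ≫ a = (yon S).map (y j) ≫ a
  disj : ∀ i j, i ≠ j → ∀ t, ¬ Agree (y i) (y j) t

variable {a} in
theorem IsTup.comp {T : Over S} {n : ℕ} {y : Fin n → (T ⟶ V)} (h : IsTup a y) {T' : Over S} (k : T' ⟶ T) :
    IsTup a fun i => k ≫ y i :=
  ⟨fun i j => by simp only [Functor.map_comp, Category.assoc, h.over i j],
    fun i j hij t ht => h.disj i j hij _ ((agree_comp k _ _ t).1 ht)⟩

/-- The scheme of tuples. -/
structure Univ (n : ℕ) where
  W : Over S
  x : Fin (n + 1) → (W ⟶ V)
  isTup : IsTup a x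
  exists_lift : ∀ {T : Over S} {y : Fin (n + 1) → (T ⟶ V)}, IsTup a y → ∃ h : T ⟶ W, ∀ i, h ≫ x i = y i
  hom_ext : ∀ {T : Over S} (h h' : T ⟶ W), (∀ i, h ≫ x i = h' ≫ x i) → h = h'
  etale_zero : Etale (x 0).left
  isSeparated_zero : IsSeparated (x 0).left
  compact : CompactSpace ↥V.left → RepWith @QuasiCompact a → CompactSpace ↥W.left

theorem nonempty_univ (hV : IsSeparated V.hom) (ha : RepWith @Etale a) : ∀ n : ℕ, Nonempty (Univ a n) := by
  intro n
  induction n with
  | zero =>
    exact ⟨{
      W := V
      x := fun _ => 𝟙 V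
      isTup := ⟨fun _ _ => rfl, fun i j hij => (hij (Subsingleton.elim (α := Fin 1) i j)).elim⟩
      exists_lift := fun {T y} _ => ⟨y 0, fun i => by rw [Category.comp_id, Subsingleton.elim (α := Fin 1) i 0]⟩
      hom_ext := fun h h' e => by simpa using e 0
      etale_zero := inferInstanceAs (Etale (𝟙 V.left))
      isSeparated_zero := inferInstanceAs (IsSeparated (𝟙 V.left))
      compact := fun h _ => h }⟩
  | succ n ih =>
    obtain ⟨U⟩ := ih
    obtain ⟨z, hz⟩ := (yon S).map_surjective (ha.1.fst ((yon S).map (U.x 0) ≫ a))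
    have sq : IsPullback ((yon S).map z) ((yon S).map (ha.1.snd ((yon S).map (U.x 0) ≫ a))) a
        ((yon S).map (U.x 0) ≫ a) := hz ▸ ha.1.isPullback _
    let pr := ha.1.snd ((yon S).map (U.x 0) ≫ a)
    haveI : Etale pr.left := ha.2 _ _ _ sq
    haveI := isSeparated_snd a hV sq
    have hover : ∀ i, (yon S).map (pr ≫ U.x i) ≫ a = (yon S).map z ≫ a := fun i => by
      rw [Functor.map_comp, Category.assoc, U.isTup.over i 0, sq.w]
    choose E hEc hE hEeq using fun i => exists_clopen a hV ha (pr ≫ U.x i) z (hover i)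
    let O : (ha.1.pullback ((yon S).map (U.x 0) ≫ a)).left.Opens := ⟨(⋃ i, (E i : Set _))ᶜ, (isClosed_iUnion_of_finite hEc).isOpen_compl⟩
    let W' : Over S := Over.mk (O.ι ≫ (ha.1.pullback ((yon S).map (U.x 0) ≫ a)).hom)
    let inc : W' ⟶ ha.1.pullback ((yon S).map (U.x 0) ≫ a) := Over.homMk O.ι rfl
    have hmem : ∀ (p : ↥O.toScheme) i, ¬ Agree (pr ≫ U.x i) z (O.ι p) := fun p i h =>
      p.2 (Set.mem_iUnion.2 ⟨i, (hE i _).2 h⟩)
    refine ⟨{
      W := W'
      x := Fin.snoc (fun i => inc ≫ pr ≫ U.x i) (inc ≫ z)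
      isTup := ⟨fun i j => ?_, fun i j hij t => ?_⟩
      exists_lift := fun {T y} hy => ?_
      hom_ext := fun h h' e => ?_
      etale_zero := ?_
      isSeparated_zero := ?_
      compact := fun hc hq => ?_ }⟩
    · have key : ∀ k, (yon S).map ((Fin.snoc (fun i => inc ≫ pr ≫ U.x i) (inc ≫ z) : Fin (n + 2) → (W' ⟶ V)) k) ≫ a =
          (yon S).map inc ≫ (yon S).map z ≫ a := fun k => by
        refine Fin.lastCases ?_ (fun k => ?_) k
        · rw [Fin.snoc_last, Functor.map_comp, Category.assoc]
        · rw [Fin.snoc_castSucc, Functor.map_comp, Category.assoc, hover]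
      rw [key i, key j]
    · revert hij
      refine Fin.lastCases ?_ (fun i => ?_) i <;> refine Fin.lastCases ?_ (fun j => ?_) j <;> intro hij h
      · exact hij rfl
      · rw [Fin.snoc_last, Fin.snoc_castSucc] at h
        exact hmem t j ((agree_comp inc _ _ t).1 h.symm)
      · rw [Fin.snoc_last, Fin.snoc_castSucc] at h
        exact hmem t i ((agree_comp inc _ _ t).1 h)
      · rw [Fin.snoc_castSucc, Fin.snoc_castSucc, agree_comp inc, agree_comp pr] at h
        exact U.isTup.disj i j (fun e => hij (congrArg Fin.castSucc e)) _ h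
    · have hy' : IsTup a fun i : Fin (n + 1) => y i.castSucc :=
        ⟨fun i j => hy.over _ _, fun i j hij => hy.disj _ _ fun e => hij (Fin.castSucc_injective _ e)⟩
      obtain ⟨h₀, hh₀⟩ := U.exists_lift hy'
      obtain ⟨l, hl⟩ := (yon S).map_surjective (sq.lift ((yon S).map (y (Fin.last _))) ((yon S).map h₀) (by
        rw [← Category.assoc, ← Functor.map_comp, hh₀]
        exact hy.over _ _))
      have hlz : l ≫ z = y (Fin.last _) := (yon S).map_injective (by rw [Functor.map_comp, hl, sq.lift_fst])
      have hlp : l ≫ pr = h₀ := (yon S).map_injective (by rw [Functor.map_comp, hl, sq.lift_snd])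
      have hr : Set.range l.left ⊆ Set.range O.ι := by
        rw [Scheme.Opens.range_ι]
        rintro _ ⟨t, rfl⟩
        simp only [O, SetLike.mem_coe, TopologicalSpace.Opens.mem_mk, Set.mem_compl_iff, Set.mem_iUnion, not_exists]
        intro i hi
        have := (agree_comp l _ _ t).2 ((hE i _).1 hi)
        rw [reassoc_of% hlp, hh₀, hlz] at this
        exact hy.disj _ _ (Fin.castSucc_lt_last i).ne t this
      let L : T ⟶ W' := Over.homMk (IsOpenImmersion.lift O.ι l.left hr) (by
        show _ ≫ O.ι ≫ _ = _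
        rw [IsOpenImmersion.lift_fac_assoc, Over.w])
      have hL : L ≫ inc = l := Over.OverMorphism.ext (IsOpenImmersion.lift_fac _ _ _)
      refine ⟨L, fun i => ?_⟩
      refine Fin.lastCases ?_ (fun i => ?_) i
      · rw [Fin.snoc_last, reassoc_of% hL, hlz]
      · rw [Fin.snoc_castSucc, reassoc_of% hL, reassoc_of% hlp, hh₀]
    · have e1 : h ≫ inc ≫ pr = h' ≫ inc ≫ pr := U.hom_ext _ _ fun i => by
        simpa only [Fin.snoc_castSucc, Category.assoc] using e i.castSucc
      have e2 : h ≫ inc ≫ z = h' ≫ inc ≫ z := by simpa only [Fin.snoc_last] using e (Fin.last _)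
      have e3 : h ≫ inc = h' ≫ inc := (yon S).map_injective (sq.hom_ext
        (by rw [← Functor.map_comp, ← Functor.map_comp, Category.assoc, Category.assoc, e2])
        (by rw [← Functor.map_comp, ← Functor.map_comp, Category.assoc, Category.assoc, e1]))
      refine Over.OverMorphism.ext ?_
      rw [← cancel_mono O.ι]
      exact congrArg (·.left) e3
    · show Etale ((Fin.snoc (fun i => inc ≫ pr ≫ U.x i) (inc ≫ z) : Fin (n + 2) → (W' ⟶ V)) (Fin.castSucc 0)).left
      rw [Fin.snoc_castSucc]
      haveI := U.etale_zero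
      exact inferInstanceAs (Etale (O.ι ≫ pr.left ≫ (U.x 0).left))
    · show IsSeparated ((Fin.snoc (fun i => inc ≫ pr ≫ U.x i) (inc ≫ z) : Fin (n + 2) → (W' ⟶ V)) (Fin.castSucc 0)).left
      rw [Fin.snoc_castSucc]
      haveI := U.isSeparated_zero
      exact inferInstanceAs (IsSeparated (O.ι ≫ pr.left ≫ (U.x 0).left))
    · haveI := U.compact hc hq
      haveI : QuasiCompact pr.left := hq.2 _ _ _ sq
      have hP : IsCompact (Set.univ : Set ↥(ha.1.pullback ((yon S).map (U.x 0) ≫ a)).left) := by
        have := pr.left.isCompact_preimage (U := ⊤) isCompact_univ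
        simpa using this
      have hc' : IsClosed ((⋃ i, (E i).carrier)ᶜ) := (isOpen_iUnion fun i => (E i).2).isClosed_compl
      exact isCompact_iff_compactSpace.1 (show IsCompact (O : Set _) from hP.of_isClosed_subset hc' (Set.subset_univ _))

end Groth.Agent.StratX
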